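import Groth.Agent.Lib.CohBasics.Closure
import Groth.Agent.Lib.CurveBundle.Coherent
import Mathlib.CategoryTheory.ObjectProperty.Kernels

/-!
# Coherent modules as an object property
-/

set_option autoImplicit false
set_option linter.style.haveILetI false

universe u

open CategoryTheory Limits AlgebraicGeometry
open scoped ZeroObject

namespace Groth.Agent.Lib.KRes.CohP

variable (X : Scheme.{u})

lemma isCoh_of_isZero {Z : X.Modules} (hZ : IsZero Z) : Coh.IsCoh Z := by
  haveI := CurveBundle.Coherent.isQCoh_unit X
  haveI : (kernel (𝟙 (Coh.structureModule X))).IsQuasicoherent :=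
    QCoh.Closure.isQCoh_kernel _
  haveI : Z.IsQuasicoherent := CohBasics.Closure.isQCoh_of_iso
    ((IsZero.iff_id_eq_zero _).2 ((cancel_mono (kernel.ι (𝟙 (Coh.structureModule X)))).1
      (by simpa using kernel.condition (𝟙 (Coh.structureModule X)))) |>.iso hZ)
  refine CohBasics.Closure.isCoh_of_finite_sections fun U hU => ?_
  haveI : Subsingleton Γ(Z, U) := subsingleton_of_forall_eq 0 fun s =>
    congrArg (fun φ : Z ⟶ Z => φ.app U s) (hZ.eq_of_src (𝟙 Z) 0)
  infer_instance

/-- Coherent modules. -/
abbrev coh : ObjectProperty X.Modules := fun M => Coh.IsCoh M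

lemma iso : (coh X).IsClosedUnderIsomorphisms where
  of_iso e h := CohBasics.Closure.isCoh_of_iso e h

lemma containsZero : (coh X).ContainsZero where
  exists_zero := ⟨0, isZero_zero _, isCoh_of_isZero X (isZero_zero _)⟩

lemma kernels [IsLocallyNoetherian X] : (coh X).IsClosedUnderKernels where
  kernels_le := by
    rintro _ ⟨f, k, hk, hf⟩
    exact CohBasics.Closure.isCoh_of_iso ((kernelIsKernel f).conePointUniqueUpToIso hk)
      (CohBasics.Closure.isCoh_kernel f hf.1 hf.2.1)

end Groth.Agent.Lib.KRes.CohP
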