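import Groth.Prelude.Def_SGA6
import Mathlib.Algebra.Homology.ShortComplex.Exact

/-!
# Elementary facts about `KZero.K0sub`
-/

set_option autoImplicit false

universe w v' u' v u

open CategoryTheory CategoryTheory.Limits

namespace Groth.Agent.Lib.KRes.KSub

variable {A : Type u} [Category.{v} A] [Abelian A] {P : ObjectProperty A}

lemma clSub_pos {X : A} (h : P X) :
    KZero.clSub P X = QuotientAddGroup.mk (FreeAbelianGroup.of (⟨X, h⟩ : Subtype P)) :=
  dif_pos h

lemma rel {S : ShortComplex A} (hS : S.ShortExact) (h₁ : P S.X₁) (h₂ : P S.X₂) (h₃ : P S.X₃) :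
    KZero.clSub P S.X₂ = KZero.clSub P S.X₁ + KZero.clSub P S.X₃ := by
  rw [← sub_eq_zero, ← sub_sub, clSub_pos h₁, clSub_pos h₂, clSub_pos h₃]
  exact (QuotientAddGroup.eq_zero_iff
    (FreeAbelianGroup.of (⟨S.X₂, h₂⟩ : Subtype P) - FreeAbelianGroup.of (⟨S.X₁, h₁⟩ : Subtype P) -
      FreeAbelianGroup.of (⟨S.X₃, h₃⟩ : Subtype P))).mpr
    (AddSubgroup.subset_closure ⟨S, h₁, h₂, h₃, hS, rfl⟩)

/-- `0 → X → Y → 0 → 0` is short exact for an isomorphism `X ≅ Y`. -/
lemma shortExact_iso {X Y Z : A} (e : X ≅ Y) (hZ : IsZero Z) :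
    (ShortComplex.mk e.hom (0 : Y ⟶ Z) comp_zero).ShortExact :=
  ShortComplex.ShortExact.mk' ((ShortComplex.exact_iff_epi _ rfl).mpr
    (inferInstanceAs (Epi e.hom))) inferInstance (hZ.epi (0 : Y ⟶ Z))

lemma clSub_zero {Z : A} (hZ : IsZero Z) (h : P Z) : KZero.clSub P Z = 0 := by
  have := rel (shortExact_iso (Iso.refl Z) hZ) h h h
  dsimp at this
  exact right_eq_add.mp this

/-- A function on objects, additive on short exact sequences in `P`, induces a homomorphism. -/
noncomputable def lift {M : Type w} [AddCommGroup M] (F : A → M)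
    (hF : ∀ S : ShortComplex A, S.ShortExact → P S.X₁ → P S.X₂ → P S.X₃ →
      F S.X₂ = F S.X₁ + F S.X₃) : KZero.K0sub P →+ M :=
  QuotientAddGroup.lift _ (FreeAbelianGroup.lift fun X : Subtype P => F X.1) <| by
    refine (AddSubgroup.closure_le _).mpr ?_
    rintro x ⟨S, h₁, h₂, h₃, hS, rfl⟩
    simp [hF S hS h₁ h₂ h₃]

lemma lift_cl {M : Type w} [AddCommGroup M] (F : A → M)
    (hF : ∀ S : ShortComplex A, S.ShortExact → P S.X₁ → P S.X₂ → P S.X₃ →
      F S.X₂ = F S.X₁ + F S.X₃) {X : A} (hX : P X) :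
    lift F hF (KZero.clSub P X) = F X := by
  rw [clSub_pos hX, lift, QuotientAddGroup.lift_mk, FreeAbelianGroup.lift_apply_of]

lemma hom_ext {M : Type w} [AddCommGroup M] {φ ψ : KZero.K0sub P →+ M}
    (h : ∀ X : A, P X → φ (KZero.clSub P X) = ψ (KZero.clSub P X)) : φ = ψ := by
  refine QuotientAddGroup.addMonoidHom_ext _ (FreeAbelianGroup.lift_ext _ _ fun X => ?_)
  simpa [clSub_pos X.2] using h X.1 X.2

lemma closure_eq_top {H : AddSubgroup (KZero.K0sub P)}
    (h : ∀ X : A, P X → KZero.clSub P X ∈ H) : H = ⊤ := by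
  refine (AddSubgroup.eq_top_iff' _).mpr fun x => ?_
  obtain ⟨y, rfl⟩ := QuotientAddGroup.mk_surjective x
  induction y using FreeAbelianGroup.induction_on with
  | zero => exact zero_mem H
  | of X => exact clSub_pos X.2 ▸ h X.1 X.2
  | neg X h => exact neg_mem h
  | add a b ha hb => exact add_mem ha hb

variable {B : Type u'} [Category.{v'} B] [Abelian B] {Q : ObjectProperty B}

lemma mapSub_cl (F : A ⥤ B) [F.Additive] [PreservesFiniteLimits F] [PreservesFiniteColimits F]
    (h : ∀ X, P X → Q (F.obj X)) {X : A} (hX : P X) :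
    SGA6.mapSub F P Q h (KZero.clSub P X) = KZero.clSub Q (F.obj X) := by
  rw [clSub_pos hX, clSub_pos (h X hX), SGA6.mapSub, QuotientAddGroup.map_mk]
  simp [FreeAbelianGroup.map_of_apply, SGA6.objMap]

end Groth.Agent.Lib.KRes.KSub
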