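import Groth.Prelude.Def_KZero

/-!
# Elementary facts about `KZero.K0tr`
-/

set_option autoImplicit false

universe w v u

open CategoryTheory CategoryTheory.Limits CategoryTheory.Pretriangulated
open scoped ZeroObject

namespace Groth.Agent.Lib.KRes.KTr

variable {D : Type u} [Category.{v} D] [Preadditive D] [HasZeroObject D] [HasShift D ℤ]
  [∀ n : ℤ, (shiftFunctor D n).Additive] [Pretriangulated D] {P : ObjectProperty D}

lemma clTr_pos {X : D} (h : P X) :
    KZero.clTr P X = QuotientAddGroup.mk (FreeAbelianGroup.of (⟨X, h⟩ : Subtype P)) :=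
  dif_pos h

lemma rel {T : Triangle D} (hT : T ∈ distTriang D) (h₁ : P T.obj₁) (h₂ : P T.obj₂)
    (h₃ : P T.obj₃) :
    KZero.clTr P T.obj₂ = KZero.clTr P T.obj₁ + KZero.clTr P T.obj₃ := by
  rw [← sub_eq_zero, ← sub_sub, clTr_pos h₁, clTr_pos h₂, clTr_pos h₃]
  exact (QuotientAddGroup.eq_zero_iff
    (FreeAbelianGroup.of (⟨T.obj₂, h₂⟩ : Subtype P) - FreeAbelianGroup.of (⟨T.obj₁, h₁⟩ : Subtype P) -
      FreeAbelianGroup.of (⟨T.obj₃, h₃⟩ : Subtype P))).mpr
    (AddSubgroup.subset_closure ⟨T, h₁, h₂, h₃, hT, rfl⟩)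

/-- A function on objects, additive on distinguished triangles in `P`, induces a homomorphism. -/
noncomputable def lift {M : Type w} [AddCommGroup M] (F : D → M)
    (hF : ∀ T : Triangle D, T ∈ distTriang D → P T.obj₁ → P T.obj₂ → P T.obj₃ →
      F T.obj₂ = F T.obj₁ + F T.obj₃) : KZero.K0tr P →+ M :=
  QuotientAddGroup.lift _ (FreeAbelianGroup.lift fun X : Subtype P => F X.1) <| by
    refine (AddSubgroup.closure_le _).mpr ?_
    rintro x ⟨T, h₁, h₂, h₃, hT, rfl⟩
    simp [hF T hT h₁ h₂ h₃]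

lemma lift_cl {M : Type w} [AddCommGroup M] (F : D → M)
    (hF : ∀ T : Triangle D, T ∈ distTriang D → P T.obj₁ → P T.obj₂ → P T.obj₃ →
      F T.obj₂ = F T.obj₁ + F T.obj₃) {X : D} (hX : P X) :
    lift F hF (KZero.clTr P X) = F X := by
  rw [clTr_pos hX, lift, QuotientAddGroup.lift_mk, FreeAbelianGroup.lift_apply_of]

lemma hom_ext {M : Type w} [AddCommGroup M] {φ ψ : KZero.K0tr P →+ M}
    (h : ∀ X : D, P X → φ (KZero.clTr P X) = ψ (KZero.clTr P X)) : φ = ψ := by
  refine QuotientAddGroup.addMonoidHom_ext _ (FreeAbelianGroup.lift_ext _ _ fun X => ?_)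
  simpa [clTr_pos X.2] using h X.1 X.2

/-- Classes are invariant under isomorphisms (as soon as `P` holds at a zero object). -/
lemma clTr_iso [P.IsClosedUnderIsomorphisms] {X Y Z : D} (e : X ≅ Y) (hZ : IsZero Z) (h0 : P Z)
    (hX : P X) : KZero.clTr P Y = KZero.clTr P X + KZero.clTr P Z :=
  rel (T := Triangle.mk e.hom (0 : Y ⟶ Z) 0)
    (isomorphic_distinguished _ (contractible_distinguished X) _
      (Triangle.isoMk _ _ (Iso.refl X) e.symm hZ.isoZero (e.hom_inv_id.trans (Category.id_comp _).symm)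
        (zero_comp.trans comp_zero.symm) (zero_comp.trans comp_zero.symm)))
    hX (P.prop_of_iso e hX) h0

lemma clTr_zero [P.IsClosedUnderIsomorphisms] {Z : D} (hZ : IsZero Z) (h0 : P Z) :
    KZero.clTr P Z = 0 :=
  right_eq_add.mp (clTr_iso (Iso.refl Z) hZ h0 h0)

lemma clTr_congr [P.IsClosedUnderIsomorphisms] {X Y Z : D} (e : X ≅ Y) (hZ : IsZero Z) (h0 : P Z)
    (hX : P X) : KZero.clTr P Y = KZero.clTr P X := by
  rw [clTr_iso e hZ h0 hX, clTr_zero hZ h0, add_zero]

lemma clTr_shift [P.IsClosedUnderIsomorphisms] (X : D) (hX : P X) (hX1 : P (X⟦(1 : ℤ)⟧))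
    (h0 : P (0 : D)) : KZero.clTr P (X⟦(1 : ℤ)⟧) = - KZero.clTr P X := by
  have h := rel (rot_of_distTriang _ (contractible_distinguished X)) hX h0 hX1
  change KZero.clTr P (0 : D) = KZero.clTr P X + KZero.clTr P (X⟦(1 : ℤ)⟧) at h
  rw [clTr_zero (isZero_zero D) h0] at h
  exact eq_neg_of_add_eq_zero_right h.symm

end Groth.Agent.Lib.KRes.KTr
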