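import Groth.Agent.Lib.KRes.KSub
import Groth.Agent.Lib.KRes.KTr
import Groth.Agent.Lib.DerCat.TStruct
import Mathlib.Algebra.Homology.DerivedCategory.SingleTriangle
import Mathlib.Algebra.Ring.NegOnePow
import Mathlib.CategoryTheory.ObjectProperty.Kernels
import Mathlib.Algebra.BigOperators.Finprod
import Mathlib.Data.Int.Interval

/-!
# K₀ of a thick class `P` of an abelian category is K₀ of `D^b` with cohomology in `P`
-/

set_option autoImplicit false

universe w v u

open CategoryTheory CategoryTheory.Limits CategoryTheory.Pretriangulated DerivedCategory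
open scoped ZeroObject

namespace Groth.Agent.Lib.KRes.KDb

open Groth.Agent.Lib.KRes Groth.Agent.Lib.DerCat.TStruct

variable {C : Type u} [Category.{v} C] [Abelian C]

/-- `[A] = [ker f] + [ker g]` for an exact `A ⟶ B ⟶ D`. -/
lemma clSub_eq_kernel_add {P : ObjectProperty C} [P.IsClosedUnderKernels] {S : ShortComplex C}
    (hS : S.Exact) (h₁ : P S.X₁) (h₂ : P S.X₂) (h₃ : P S.X₃) :
    KZero.clSub P S.X₁ = KZero.clSub P (kernel S.f) + KZero.clSub P (kernel S.g) := by
  let q : S.X₁ ⟶ kernel S.g := kernel.lift S.g S.f S.zero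
  have : Epi q := S.exact_iff_epi_kernel_lift.1 hS
  have hq : kernel.ι S.f ≫ q = 0 := by
    rw [← cancel_mono (kernel.ι S.g), Category.assoc, kernel.lift_ι, kernel.condition, zero_comp]
  refine KSub.rel (S := ShortComplex.mk (kernel.ι S.f) q hq) ?_ (P.prop_kernel S.f h₁ h₂) h₁
    (P.prop_kernel S.g h₂ h₃)
  refine ShortComplex.ShortExact.mk' (ShortComplex.exact_of_f_is_kernel _ ?_) inferInstance ‹_›
  exact KernelFork.IsLimit.ofι' _ hq fun k hk => ⟨kernel.lift S.f k (by
    rw [← kernel.lift_ι S.g S.f S.zero, ← Category.assoc]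
    exact (congrArg (· ≫ kernel.ι S.g) hk).trans zero_comp), kernel.lift_ι _ _ _⟩

lemma hasFiniteSupport {M : Type*} [Zero M] (f : ℤ → M) (a b : ℤ)
    (h : ∀ i, i < a ∨ b < i → f i = 0) : f.HasFiniteSupport :=
  (Set.finite_Icc a b).subset fun i hi => by
    by_contra h'
    exact hi (h i (by simp only [Set.mem_Icc, not_and_or, not_le] at h'; exact h'))

variable [HasDerivedCategory.{w} C] (P : ObjectProperty C) [P.IsClosedUnderIsomorphisms]
  [P.ContainsZero]

/-- The summand of the Euler characteristic in degree `i`. -/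
noncomputable def term (K : DerivedCategory C) (i : ℤ) : KZero.K0sub P :=
  ((i.negOnePow : ℤˣ) : ℤ) • KZero.clSub P ((homologyFunctor C i).obj K)

/-- The Euler characteristic in `K₀(P)`. -/
noncomputable def χ (K : DerivedCategory C) : KZero.K0sub P := ∑ᶠ i : ℤ, term P K i

lemma clSub_isZero {Z : C} (hZ : IsZero Z) : KZero.clSub P Z = 0 :=
  KSub.clSub_zero hZ (P.prop_of_isZero hZ)

lemma clSub_congr {X Y : C} (e : X ≅ Y) : KZero.clSub P X = KZero.clSub P Y := by
  by_cases hX : P X
  · have h0 := P.prop_of_isZero (isZero_zero C)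
    have := KSub.rel (KSub.shortExact_iso e (isZero_zero C)) hX (P.prop_of_iso e hX) h0
    dsimp at this
    rw [this, KSub.clSub_zero (isZero_zero C) h0, add_zero]
  · rw [KZero.clSub, KZero.clSub, dif_neg hX, dif_neg fun h => hX (P.prop_of_iso e.symm h)]

lemma finite_term {K : DerivedCategory C} (h : ∃ a b : ℤ, K.IsGE a ∧ K.IsLE b) :
    (term P K).HasFiniteSupport := by
  obtain ⟨a, b, _, _⟩ := h
  refine hasFiniteSupport _ a b fun i hi => ?_
  rw [term, clSub_isZero P (hi.elim (fun h => isZero_of_isGE K a i h) (fun h => isZero_of_isLE K b i h)), smul_zero]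

variable [P.IsClosedUnderKernels]

lemma χ_add (T : Triangle (DerivedCategory C)) (hT : T ∈ distTriang (DerivedCategory C))
    (h₁ : ∀ i, P ((homologyFunctor C i).obj T.obj₁)) (b₁ : ∃ a b : ℤ, T.obj₁.IsGE a ∧ T.obj₁.IsLE b)
    (h₂ : ∀ i, P ((homologyFunctor C i).obj T.obj₂))
    (h₃ : ∀ i, P ((homologyFunctor C i).obj T.obj₃)) (b₃ : ∃ a b : ℤ, T.obj₃.IsGE a ∧ T.obj₃.IsLE b) :
    χ P T.obj₂ = χ P T.obj₁ + χ P T.obj₃ := by
  let k : ℤ → KZero.K0sub P := fun i =>
    ((i.negOnePow : ℤˣ) : ℤ) • KZero.clSub P (kernel ((homologyFunctor C i).map T.mor₁))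
  have key : ∀ i, term P T.obj₂ i = term P T.obj₁ i + term P T.obj₃ i + (k (i + 1) - k i) := by
    intro i
    have e1 := clSub_eq_kernel_add (HomologySequence.exact₂ T hT i) (h₁ i) (h₂ i) (h₃ i)
    have e2 := clSub_eq_kernel_add (HomologySequence.exact₃ T hT i (i + 1) rfl) (h₂ i) (h₃ i)
      (h₁ (i + 1))
    have e3 := clSub_eq_kernel_add (HomologySequence.exact₁ T hT i (i + 1) rfl) (h₃ i)
      (h₁ (i + 1)) (h₂ (i + 1))
    dsimp only at e1 e2 e3
    simp only [term, k, e1, e2, e3, Int.negOnePow_succ, Units.val_neg, neg_smul, smul_add]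
    abel
  obtain ⟨a, b, _, _⟩ := b₁
  have hk : k.HasFiniteSupport := hasFiniteSupport _ a b fun i hi => by
    simp only [k]
    rw [clSub_isZero P (IsZero.of_mono (kernel.ι _)
      (hi.elim (fun h => isZero_of_isGE T.obj₁ a i h) (fun h => isZero_of_isLE T.obj₁ b i h))), smul_zero]
  have hk' : (fun i => k (i + 1)).HasFiniteSupport := hasFiniteSupport _ (a - 1) (b - 1)
    fun i hi => by
      simp only [k]
      rw [clSub_isZero P (IsZero.of_mono (kernel.ι _)
        (hi.elim (fun h => isZero_of_isGE T.obj₁ a (i + 1) (by omega))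
          (fun h => isZero_of_isLE T.obj₁ b (i + 1) (by omega)))), smul_zero]
  have hz : ∑ᶠ i, (k (i + 1) - k i) = 0 := by
    rw [finsum_sub_distrib hk' hk, sub_eq_zero]
    exact finsum_comp_equiv (Equiv.addRight (1 : ℤ))
  unfold χ
  have f₁ : (term P T.obj₁).HasFiniteSupport := finite_term P ⟨a, b, ‹_›, ‹_›⟩
  have f₃ : (term P T.obj₃).HasFiniteSupport := finite_term P b₃
  rw [finsum_congr key,
    finsum_add_distrib (f := fun i => term P T.obj₁ i + term P T.obj₃ i)
      (g := fun i => k (i + 1) - k i) (f₁.add f₃) (hk'.sub hk), hz, add_zero,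
    finsum_add_distrib f₁ f₃]

lemma χ_single (X : C) (n : ℤ) :
    χ P ((singleFunctor C n).obj X) = ((n.negOnePow : ℤˣ) : ℤ) • KZero.clSub P X := by
  have e := (singleFunctorCompHomologyFunctorIso C n).app X
  rw [χ, finsum_eq_single _ n fun i hi => ?_]
  · rw [term]
    congr 1
    exact clSub_congr P e
  · rw [term, clSub_isZero P, smul_zero]
    rcases lt_or_gt_of_ne hi with h | h
    · exact isZero_of_isGE _ n i h
    · exact isZero_of_isLE _ n i h

variable {Q : ObjectProperty (DerivedCategory C)}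

/-- The hypothesis on `Q`: bounded with cohomology in `P`. -/
def Cond (Q : ObjectProperty (DerivedCategory C)) : Prop :=
  ∀ K, Q K ↔ (∀ i : ℤ, P ((homologyFunctor C i).obj K)) ∧ ∃ a b : ℤ, K.IsGE a ∧ K.IsLE b

variable {P}

lemma prop_single (hQ : Cond P Q) {X : C} (hX : P X) (n : ℤ) : Q ((singleFunctor C n).obj X) := by
  refine (hQ _).2 ⟨fun i => ?_, n, n, inferInstance, inferInstance⟩
  by_cases hi : i = n
  · subst hi
    exact P.prop_of_iso ((singleFunctorCompHomologyFunctorIso C i).app X).symm hX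
  · apply P.prop_of_isZero
    rcases lt_or_gt_of_ne hi with h | h
    · exact isZero_of_isGE _ n i h
    · exact isZero_of_isLE _ n i h

lemma isClosedUnderIso (hQ : Cond P Q) : Q.IsClosedUnderIsomorphisms where
  of_iso {X Y} e hX := by
    obtain ⟨h, a, b, ha, hb⟩ := (hQ X).1 hX
    exact (hQ Y).2 ⟨fun i => P.prop_of_iso ((homologyFunctor C i).mapIso e) (h i), a, b,
      TStructure.t.isGE_of_iso e a, TStructure.t.isLE_of_iso e b⟩

lemma prop_zero (hQ : Cond P Q) {Z : DerivedCategory C} (hZ : IsZero Z) : Q Z :=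
  (isClosedUnderIso hQ).of_iso
    (((singleFunctor C 0).map_isZero (isZero_zero C)).iso hZ)
    (prop_single hQ (P.prop_of_isZero (isZero_zero C)) 0)

/-- `[X] ↦ [X[0]]`. -/
noncomputable def toTr (hQ : Cond P Q) : KZero.K0sub P →+ KZero.K0tr Q :=
  KSub.lift (fun X => KZero.clTr Q ((singleFunctor C 0).obj X)) fun _ hS h₁ h₂ h₃ =>
    KTr.rel hS.singleTriangle_distinguished (prop_single hQ h₁ 0) (prop_single hQ h₂ 0)
      (prop_single hQ h₃ 0)

lemma clTr_single (hQ : Cond P Q) {X : C} (hX : P X) (n : ℤ) :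
    KZero.clTr Q ((singleFunctor C n).obj X) =
      ((n.negOnePow : ℤˣ) : ℤ) • KZero.clTr Q ((singleFunctor C 0).obj X) := by
  have := isClosedUnderIso hQ
  have step : ∀ m : ℤ, KZero.clTr Q ((singleFunctor C m).obj X) =
      - KZero.clTr Q ((singleFunctor C (m + 1)).obj X) := by
    intro m
    have e := ((singleFunctors C).shiftIso 1 m (m + 1) (add_comm 1 m)).app X
    rw [KTr.clTr_congr e (isZero_zero _) (prop_zero hQ (isZero_zero _))
        (Q.prop_of_iso e.symm (prop_single hQ hX m))]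
    exact KTr.clTr_shift _ (prop_single hQ hX (m + 1))
      (Q.prop_of_iso e.symm (prop_single hQ hX m)) (prop_zero hQ (isZero_zero _))
  induction n using Int.induction_on with
  | zero => simp
  | succ i ih =>
    rw [Int.negOnePow_succ, Units.val_neg, neg_smul, ← ih, step (i : ℤ), neg_neg]
  | pred i ih =>
    have h1 := step (-(i : ℤ) - 1)
    rw [sub_add_cancel] at h1
    have h2 : ((-(i : ℤ) - 1).negOnePow : ℤ) = -((-(i : ℤ)).negOnePow : ℤ) := by
      simp [Int.negOnePow_sub]
    rw [h1, h2, neg_smul, ← ih]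

lemma toTr_χ (hQ : Cond P Q) {K : DerivedCategory C} (hK : Q K) :
    toTr hQ (χ P K) = KZero.clTr Q K := by
  have := isClosedUnderIso hQ
  obtain ⟨hP, a, b, ha, hb⟩ := (hQ K).1 hK
  obtain ⟨n, hn⟩ : ∃ n : ℕ, b < a + n := ⟨(b - a).toNat + 1, by omega⟩
  induction n generalizing K b with
  | zero =>
    have hZ : IsZero K := TStructure.t.isZero K b a (by omega)
    rw [KTr.clTr_zero hZ hK, χ, finsum_eq_zero_of_forall_eq_zero fun i => ?_, map_zero]
    rw [term, clSub_isZero P ((homologyFunctor C i).map_isZero hZ), smul_zero]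
  | succ n ih =>
    by_cases hbn : b < a + n
    · exact ih hK hP b ha hb hbn
    have hT := TStructure.t.triangleLTGE_distinguished b K
    let K' := (TStructure.t.truncLT b).obj K
    let K'' := (TStructure.t.truncGE b).obj K
    have hlo : ∀ i, i < b →
        IsIso ((homologyFunctor C i).map ((TStructure.t.triangleLTGE b).obj K).mor₁) :=
      fun i hi => @isIso_homologyMap_mor₁ _ _ _ _ _ hT b
        (inferInstance : TStructure.t.IsGE K'' b) i hi
    have hhi : ∀ i, b - 1 < i →
        IsIso ((homologyFunctor C i).map ((TStructure.t.triangleLTGE b).obj K).mor₂) :=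
      fun i hi => @isIso_homologyMap_mor₂ _ _ _ _ _ hT (b - 1)
        (inferInstance : TStructure.t.IsLE K' (b - 1)) i hi
    have hP' : ∀ i, P ((homologyFunctor C i).obj K') := fun i => by
      by_cases hi : i < b
      · exact P.prop_of_iso (@asIso _ _ _ _ _ (hlo i hi)).symm (hP i)
      · exact P.prop_of_isZero (isZero_of_isLE K' (b - 1) i (by omega))
    have ha' : K'.IsGE a := (isGE_iff _ _).2 fun i hi => by
      by_cases hib : i < b
      · exact (isZero_of_isGE K a i hi).of_iso (@asIso _ _ _ _ _ (hlo i hib))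
      · exact isZero_of_isLE K' (b - 1) i (by omega)
    have hb'' : K''.IsLE b := (isLE_iff _ _).2 fun i hi => by
      exact (isZero_of_isLE K b i hi).of_iso (@asIso _ _ _ _ _ (hhi i (by omega))).symm
    have hP'' : ∀ i, P ((homologyFunctor C i).obj K'') := fun i => by
      by_cases hi : i < b
      · exact P.prop_of_isZero (isZero_of_isGE K'' b i hi)
      · exact P.prop_of_iso (@asIso _ _ _ _ _ (hhi i (by omega))) (hP i)
    have hQ' : Q K' := (hQ _).2 ⟨hP', a, b - 1, ha', inferInstance⟩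
    have hQ'' : Q K'' := (hQ _).2 ⟨hP'', b, b, inferInstance, hb''⟩
    obtain ⟨M, ⟨e⟩⟩ := exists_iso_singleFunctor_obj_of_isGE_of_isLE K'' b
    have hM : P M := P.prop_of_iso ((homologyFunctor C b).mapIso e ≪≫
      (singleFunctorCompHomologyFunctorIso C b).app M) (hP'' b)
    have hχ'' : χ P K'' = χ P ((singleFunctor C b).obj M) := finsum_congr fun i => by
      simp only [term]
      rw [clSub_congr P ((homologyFunctor C i).mapIso e)]
    have e1 : toTr hQ (χ P K'') = KZero.clTr Q K'' := by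
      rw [hχ'', χ_single P M b, map_zsmul, toTr, KSub.lift_cl _ _ hM, ← clTr_single hQ hM b,
        KTr.clTr_congr e (isZero_zero _) (prop_zero hQ (isZero_zero _)) hQ'']
    have e2 := χ_add P _ hT hP' ⟨a, b - 1, ha', inferInstance⟩ hP hP'' ⟨b, b, inferInstance, hb''⟩
    change χ P K = χ P K' + χ P K'' at e2
    rw [e2, map_add, e1, ih hQ' hP' (b - 1) ha' inferInstance (by omega)]
    exact (KTr.rel hT hQ' hK hQ'').symm

/-- The inverse `K ↦ ∑ (-1)^i [H^i K]`. -/
noncomputable def ofTr (hQ : Cond P Q) : KZero.K0tr Q →+ KZero.K0sub P :=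
  KTr.lift (χ P) fun T hT h₁ h₂ h₃ =>
    χ_add P T hT ((hQ _).1 h₁).1 ((hQ _).1 h₁).2 ((hQ _).1 h₂).1 ((hQ _).1 h₃).1 ((hQ _).1 h₃).2

/-- `K₀(P) ≅ K₀(D^b with cohomology in P)`. -/
theorem exists_equiv (hQ : Cond P Q) :
    ∃ φ : KZero.K0sub P ≃+ KZero.K0tr Q, ∀ X : C, P X →
      φ (KZero.clSub P X) = KZero.clTr Q ((singleFunctor C 0).obj X) := by
  refine ⟨AddMonoidHom.toAddEquiv (toTr hQ) (ofTr hQ) ?_ ?_, fun X hX => ?_⟩
  · refine KSub.hom_ext fun X hX => ?_
    rw [AddMonoidHom.comp_apply, toTr, KSub.lift_cl _ _ hX, ofTr,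
      KTr.lift_cl _ _ (prop_single hQ hX 0), χ_single]
    simp
  · refine KTr.hom_ext fun K hK => ?_
    rw [AddMonoidHom.comp_apply, ofTr, KTr.lift_cl _ _ hK, toTr_χ hQ hK]
    rfl
  · change toTr hQ (KZero.clSub P X) = _
    exact KSub.lift_cl _ _ hX

end Groth.Agent.Lib.KRes.KDb
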