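import Mathlib.Algebra.Homology.ShortComplex.ShortExact
import Mathlib.Algebra.Homology.ShortComplex.Abelian
import Mathlib.Algebra.Homology.HomologicalComplexAbelian
import Mathlib.Algebra.Homology.ShortComplex.HomologicalComplex
import Mathlib.CategoryTheory.Abelian.Basic
import Mathlib.CategoryTheory.Limits.Shapes.Kernels

/-!
# Resolutions by objects of a class `P₀` and the associated dimension

`Dim P₀ P₁ n A`: `A` satisfies `P₁` and every `n`-th syzygy of `A` with respect to presentations by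
objects of `P₀` lies in `P₀`.
-/

set_option autoImplicit false

universe v u

open CategoryTheory CategoryTheory.Limits

namespace Groth.Agent.Lib.KRes.Dim

noncomputable section

variable {C : Type u} [Category.{v} C] [Abelian C] (P₀ P₁ : ObjectProperty C)

/-- A presentation of `A` by an object of `P₀`: a short exact sequence `0 → K → L → A → 0`. -/
structure Cover (A : C) where
  K : C
  L : C
  i : K ⟶ L
  p : L ⟶ A
  w : i ≫ p = 0
  se : (ShortComplex.mk i p w).ShortExact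
  hL : P₀ L

/-- A presentation from an epimorphism. -/
def Cover.ofEpi {A L : C} (p : L ⟶ A) [Epi p] (hL : P₀ L) : Cover P₀ A where
  K := kernel p
  L := L
  i := kernel.ι p
  p := p
  w := kernel.condition p
  se := ShortComplex.ShortExact.mk'
    (ShortComplex.exact_of_f_is_kernel _ (kernelIsKernel p)) inferInstance ‹Epi p›
  hL := hL

/-- A resolution of `A` by objects of `P₀`, as a sequence of presentations. -/
structure Res (A : C) where
  K : ℕ → C
  L : ℕ → C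
  hK : K 0 = A
  i : ∀ n, K (n + 1) ⟶ L n
  p : ∀ n, L n ⟶ K n
  w : ∀ n, i n ≫ p n = 0
  se : ∀ n, (ShortComplex.mk (i n) (p n) (w n)).ShortExact
  hL : ∀ n, P₀ (L n)

variable {P₀}

/-- Prepend a presentation to a resolution. -/
def Res.cons {A : C} (c : Cover P₀ A) (R : Res P₀ c.K) : Res P₀ A where
  K | 0 => A
    | n + 1 => R.K n
  L | 0 => c.L
    | n + 1 => R.L n
  hK := rfl
  i | 0 => eqToHom R.hK ≫ c.i
    | n + 1 => R.i n
  p | 0 => c.p
    | n + 1 => R.p n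
  w | 0 => by simp [c.w]
    | n + 1 => R.w n
  se | 0 => ShortComplex.shortExact_of_iso (S₁ := ShortComplex.mk c.i c.p c.w)
        (ShortComplex.isoMk (eqToIso R.hK.symm) (Iso.refl _) (Iso.refl _) (by simp) (by simp)) c.se
     | n + 1 => R.se n
  hL | 0 => c.hL
     | n + 1 => R.hL n

/-- The chain complex of a resolution. -/
def Res.complex {A : C} (R : Res P₀ A) : ChainComplex C ℕ :=
  ChainComplex.of R.L (fun n => R.p (n + 1) ≫ R.i n) (fun n => by
    simp only [Category.assoc]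
    rw [← Category.assoc (R.i (n + 1)), R.w (n + 1)]
    simp)

lemma Res.complex_d {A : C} (R : Res P₀ A) (n : ℕ) :
    R.complex.d (n + 1) n = R.p (n + 1) ≫ R.i n :=
  ChainComplex.of_d (V := C) R.L (fun m => R.p (m + 1) ≫ R.i m) n

lemma Res.complex_hP {A : C} (R : Res P₀ A) (n : ℕ) : P₀ (R.complex.X n) := R.hL n

lemma Res.exactAt {A : C} (R : Res P₀ A) (n : ℕ) : R.complex.ExactAt (n + 1) := by
  rw [HomologicalComplex.exactAt_iff' _ (n + 2) (n + 1) n (by simp) (by simp)]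
  haveI : Epi (R.p (n + 2)) := (R.se (n + 2)).epi_g
  haveI : Mono (R.i n) := (R.se n).mono_f
  have w' : R.i (n + 1) ≫ R.p (n + 1) ≫ R.i n = 0 := by
    rw [← Category.assoc, R.w, zero_comp]
  let S₁ := R.complex.sc' (n + 2) (n + 1) n
  let S₂ := ShortComplex.mk (R.i (n + 1)) (R.p (n + 1) ≫ R.i n) w'
  let S₃ := ShortComplex.mk (R.i (n + 1)) (R.p (n + 1)) (R.w (n + 1))
  let φ : S₃ ⟶ S₂ :=
    { τ₁ := 𝟙 _, τ₂ := 𝟙 _, τ₃ := R.i n }
  let ψ : S₁ ⟶ S₂ :=
    { τ₁ := R.p (n + 2), τ₂ := 𝟙 _, τ₃ := 𝟙 _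
      comm₁₂ := ((Category.comp_id _).trans (R.complex_d (n + 1))).symm
      comm₂₃ := (Category.id_comp _).trans (((Category.comp_id _).trans (R.complex_d n)).symm) }
  haveI : Epi ψ.τ₁ := inferInstanceAs (Epi (R.p (n + 2)))
  haveI : IsIso ψ.τ₂ := inferInstanceAs (IsIso (𝟙 _))
  haveI : Mono ψ.τ₃ := inferInstanceAs (Mono (𝟙 _))
  haveI : Epi φ.τ₁ := inferInstanceAs (Epi (𝟙 _))
  haveI : IsIso φ.τ₂ := inferInstanceAs (IsIso (𝟙 _))
  haveI : Mono φ.τ₃ := inferInstanceAs (Mono (R.i n))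
  rw [ShortComplex.exact_iff_of_epi_of_isIso_of_mono ψ,
    ← ShortComplex.exact_iff_of_epi_of_isIso_of_mono φ]
  exact (R.se (n + 1)).exact

/-- The zero-th homology of the complex of a resolution is the resolved object. -/
def Res.homologyZeroIso {A : C} (R : Res P₀ A) : R.complex.homology 0 ≅ A :=
  haveI : Epi (R.p 1) := (R.se 1).epi_g
  R.complex.isoHomologyι 0 _ rfl (R.complex.shape _ _ (by simp)) ≪≫
    (R.complex.opcyclesIsCokernel 1 0 (by simp)).coconePointUniqueUpToIso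
      (isCokernelEpiComp (R.se 0).gIsCokernel (R.p 1) (R.complex_d 0)) ≪≫ eqToIso R.hK

/-- The cycles of the complex of a resolution are the syzygies. -/
def Res.cyclesIso {A : C} (R : Res P₀ A) (n : ℕ) : R.complex.cycles (n + 1) ≅ R.K (n + 2) :=
  haveI : Mono (R.i n) := (R.se n).mono_f
  (R.complex.cyclesIsKernel (n + 1) n (by simp)).conePointUniqueUpToIso
    (isKernelCompMono (R.se (n + 1)).fIsKernel (R.i n) (R.complex_d n))

variable (P₀)

/-- Every `n`-th syzygy of `A` lies in `P₀`. -/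
def Dim : ℕ → C → Prop
  | 0, A => P₀ A
  | n + 1, A => P₁ A ∧ ∀ c : Cover P₀ A, Dim n c.K

variable {P₁}

lemma dim_P₁ (hle : ∀ X, P₀ X → P₁ X) : ∀ {n : ℕ} {A : C}, Dim P₀ P₁ n A → P₁ A
  | 0, _, h => hle _ h
  | _ + 1, _, h => h.1

variable {P₀}

lemma dim_of_P₀ (hle : ∀ X, P₀ X → P₁ X)
    (h1₀ : ∀ S : ShortComplex C, S.ShortExact → P₀ S.X₂ → P₀ S.X₃ → P₀ S.X₁) :
    ∀ (n : ℕ) {A : C}, P₀ A → Dim P₀ P₁ n A
  | 0, _, h => h
  | n + 1, _, h => ⟨hle _ h, fun c => dim_of_P₀ hle h1₀ n (h1₀ _ c.se c.hL h)⟩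

lemma dim_succ (hle : ∀ X, P₀ X → P₁ X)
    (h1₀ : ∀ S : ShortComplex C, S.ShortExact → P₀ S.X₂ → P₀ S.X₃ → P₀ S.X₁) :
    ∀ (n : ℕ) {A : C}, Dim P₀ P₁ n A → Dim P₀ P₁ (n + 1) A
  | 0, _, h => dim_of_P₀ hle h1₀ 1 h
  | n + 1, _, h => ⟨h.1, fun c => dim_succ hle h1₀ n (h.2 c)⟩

lemma dim_mono (hle : ∀ X, P₀ X → P₁ X)
    (h1₀ : ∀ S : ShortComplex C, S.ShortExact → P₀ S.X₂ → P₀ S.X₃ → P₀ S.X₁)
    {m n : ℕ} (hmn : m ≤ n) {A : C} (h : Dim P₀ P₁ m A) : Dim P₀ P₁ n A := by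
  induction hmn with
  | refl => exact h
  | step _ ih => exact dim_succ hle h1₀ _ ih

section Cover

variable (hcov : ∀ A : C, P₁ A → Nonempty (Cover P₀ A))
  (hker : ∀ (A : C), P₁ A → ∀ c : Cover P₀ A, P₁ c.K)

include hcov hker in
lemma exists_res {A : C} (hA : P₁ A) : Nonempty (Res P₀ A) := by
  let step : {X : C // P₁ X} → {X : C // P₁ X} := fun X =>
    ⟨(hcov X.1 X.2).some.K, hker X.1 X.2 _⟩
  let seq : ℕ → {X : C // P₁ X} := fun n => Nat.rec ⟨A, hA⟩ (fun _ X => step X) n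
  let c : ∀ n, Cover P₀ (seq n).1 := fun n => (hcov (seq n).1 (seq n).2).some
  exact ⟨⟨fun n => (seq n).1, fun n => (c n).L, rfl, fun n => (c n).i, fun n => (c n).p,
    fun n => (c n).w, fun n => (c n).se, fun n => (c n).hL⟩⟩

include hcov hker in
lemma dim_of_forall_res [P₀.IsClosedUnderIsomorphisms] :
    ∀ (n : ℕ) {A : C}, P₁ A → (∀ R : Res P₀ A, P₀ (R.K n)) → Dim P₀ P₁ n A
  | 0, A, hA, h => by
      obtain ⟨R⟩ := exists_res hcov hker hA
      exact R.hK ▸ h R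
  | n + 1, A, hA, h => ⟨hA, fun c => dim_of_forall_res n (hker A hA c) fun R => h (R.cons c)⟩

include hcov hker in
theorem exists_dim [P₀.IsClosedUnderIsomorphisms] {A : C} (hA : P₁ A)
    (h3 : ∃ d : ℕ, ∀ L : ChainComplex C ℕ, (∀ i, P₀ (L.X i)) → (∀ i, 1 ≤ i → L.ExactAt i) →
      Nonempty (L.homology 0 ≅ A) → P₀ (L.cycles (d + 1))) :
    ∃ n, Dim P₀ P₁ n A := by
  obtain ⟨d, hd⟩ := h3
  refine ⟨d + 2, dim_of_forall_res hcov hker _ hA fun R => ?_⟩
  refine P₀.prop_of_iso (R.cyclesIso d) (hd R.complex R.complex_hP (fun i hi => ?_) ⟨R.homologyZeroIso⟩)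
  obtain ⟨j, rfl⟩ : ∃ j, i = j + 1 := ⟨i - 1, by omega⟩
  exact R.exactAt j

end Cover

end

end Groth.Agent.Lib.KRes.Dim
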