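import Groth.Agent.Lib.KRes.Dim
import Groth.Agent.Lib.KRes.KSub

/-!
# The resolution theorem for `K₀`
-/

set_option autoImplicit false

universe v u

open CategoryTheory CategoryTheory.Limits

namespace Groth.Agent.Lib.KRes.Euler

open Dim

noncomputable section

variable {C : Type u} [Category.{v} C] [Abelian C] {P₀ P₁ : ObjectProperty C}

/-- The hypotheses of the resolution theorem. -/
structure Hyp (P₀ P₁ : ObjectProperty C) : Prop where
  iso₀ : P₀.IsClosedUnderIsomorphisms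
  iso₁ : P₁.IsClosedUnderIsomorphisms
  hle : ∀ X, P₀ X → P₁ X
  hext₀ : ∀ S : ShortComplex C, S.ShortExact → P₀ S.X₁ → P₀ S.X₃ → P₀ S.X₂
  hext₁ : ∀ S : ShortComplex C, S.ShortExact → P₁ S.X₁ → P₁ S.X₃ → P₁ S.X₂
  h1₀ : ∀ S : ShortComplex C, S.ShortExact → P₀ S.X₂ → P₀ S.X₃ → P₀ S.X₁
  h1₁ : ∀ S : ShortComplex C, S.ShortExact → P₁ S.X₂ → P₁ S.X₃ → P₁ S.X₁
  h2 : ∀ (A B D : C) (u : A ⟶ B) (v : D ⟶ B), Epi u → P₁ A → P₁ B → P₁ D →
    ∃ (L : C) (u' : L ⟶ D) (v' : L ⟶ A), P₀ L ∧ Epi u' ∧ u' ≫ v = v' ≫ u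

variable (H : Hyp P₀ P₁)
include H

lemma Hyp.cover {A : C} (hA : P₁ A) : Nonempty (Cover P₀ A) := by
  obtain ⟨L, u', -, hL, hu', -⟩ := H.h2 A A A (𝟙 A) (𝟙 A) inferInstance hA hA hA
  exact ⟨Cover.ofEpi P₀ u' hL⟩

lemma Hyp.ker {A : C} (hA : P₁ A) (c : Cover P₀ A) : P₁ c.K := H.h1₁ _ c.se (H.hle _ c.hL) hA

lemma Hyp.zero {A : C} (hA : P₀ A) {Z : C} (hZ : IsZero Z) : P₀ Z := by
  have hs : (ShortComplex.mk (0 : Z ⟶ A) (𝟙 A) (Category.comp_id 0)).ShortExact :=
    ShortComplex.ShortExact.mk' ((ShortComplex.exact_iff_mono _ rfl).mpr inferInstance)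
      (hZ.mono _) inferInstance
  exact H.h1₀ _ hs hA hA

/-- A function computing the Euler characteristic on objects of dimension at most `n`. -/
structure IsEuler (n : ℕ) (f : C → KZero.K0sub P₀) : Prop where
  base : ∀ A, P₀ A → f A = KZero.clSub P₀ A
  add : ∀ S : ShortComplex C, S.ShortExact → Dim P₀ P₁ n S.X₁ → Dim P₀ P₁ n S.X₂ →
    Dim P₀ P₁ n S.X₃ → f S.X₂ = f S.X₁ + f S.X₃

variable {n : ℕ} {f : C → KZero.K0sub P₀} (hf : IsEuler (P₁ := P₁) n f)
include hf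

lemma eval {A : C} (h : Dim P₀ P₁ (n + 1) A) (c c' : Cover P₀ A)
    (q : c'.L ⟶ c.L) (hqe : Epi q) (hq : q ≫ c.p = c'.p) :
    KZero.clSub P₀ c'.L - f c'.K = KZero.clSub P₀ c.L - f c.K := by
  have hQ : P₀ (kernel q) :=
    H.h1₀ _ (ShortComplex.ShortExact.mk' (ShortComplex.exact_of_f_is_kernel
      (ShortComplex.mk (kernel.ι q) q (kernel.condition q)) (kernelIsKernel q)) inferInstance ‹_›)
      c'.hL c.hL
  have hrel := KSub.rel (P := P₀) (ShortComplex.ShortExact.mk' (ShortComplex.exact_of_f_is_kernel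
      (ShortComplex.mk (kernel.ι q) q (kernel.condition q)) (kernelIsKernel q)) inferInstance ‹_›)
      hQ c'.hL c.hL
  haveI : Mono c.i := c.se.mono_f
  haveI : Mono c'.i := c'.se.mono_f
  have hc' : IsLimit (KernelFork.ofι c'.i c'.w) := c'.se.fIsKernel
  have hc : IsLimit (KernelFork.ofι c.i c.w) := c.se.fIsKernel
  obtain ⟨a, ha⟩ : ∃ a : kernel q ⟶ c'.K, a ≫ c'.i = kernel.ι q :=
    let l := KernelFork.IsLimit.lift' hc' (kernel.ι q)
      (by rw [← hq, kernel.condition_assoc, zero_comp])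
    ⟨l.1, l.2⟩
  obtain ⟨b, hb⟩ : ∃ b : c'.K ⟶ c.K, b ≫ c.i = c'.i ≫ q :=
    let l := KernelFork.IsLimit.lift' hc (c'.i ≫ q)
      (by rw [Category.assoc, hq, c'.w])
    ⟨l.1, l.2⟩
  have w : a ≫ b = 0 := by
    rw [← cancel_mono c.i, Category.assoc, hb, reassoc_of% ha, kernel.condition, zero_comp]
  haveI : Mono a := mono_of_mono_fac ha
  haveI : Epi b := by
    -- pull back the kernel of `c.p` along `q`
    obtain ⟨t, ht⟩ : ∃ t : pullback c.i q ⟶ c'.K, t ≫ c'.i = pullback.snd c.i q :=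
      let l := KernelFork.IsLimit.lift' hc' (pullback.snd c.i q)
        (by rw [← hq, ← pullback.condition_assoc, c.w, comp_zero])
      ⟨l.1, l.2⟩
    have hfac : t ≫ b = pullback.fst c.i q := by
      rw [← cancel_mono c.i, Category.assoc, hb, reassoc_of% ht, pullback.condition]
    exact epi_of_epi_fac hfac
  have hK : (ShortComplex.mk a b w).ShortExact := by
    refine ShortComplex.ShortExact.mk' (ShortComplex.exact_of_f_is_kernel _ ?_) inferInstance ‹_›
    refine KernelFork.IsLimit.ofι' _ _ fun {T} x hx => ?_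
    obtain ⟨t, ht⟩ := kernel.lift' q (x ≫ c'.i) (by rw [Category.assoc, ← hb, reassoc_of% hx, zero_comp])
    exact ⟨t, by rw [← cancel_mono c'.i, Category.assoc, ha, ht]⟩
  have := hf.add _ hK (dim_of_P₀ H.hle H.h1₀ n hQ) (h.2 c') (h.2 c)
  dsimp at this hrel
  rw [this, hrel, hf.base _ hQ]
  abel

lemma wellDefined {A : C} (h : Dim P₀ P₁ (n + 1) A) (c c' : Cover P₀ A) :
    KZero.clSub P₀ c'.L - f c'.K = KZero.clSub P₀ c.L - f c.K := by
  haveI : Epi c.p := c.se.epi_g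
  haveI : Epi c'.p := c'.se.epi_g
  have hse : (ShortComplex.mk (kernel.ι (pullback.snd c'.p c.p)) (pullback.snd c'.p c.p)
      (kernel.condition _)).ShortExact :=
    ShortComplex.ShortExact.mk' (ShortComplex.exact_of_f_is_kernel _ (kernelIsKernel _))
      inferInstance inferInstance
  obtain ⟨t, ht⟩ : ∃ t : kernel (pullback.snd c'.p c.p) ⟶ c'.K,
      t ≫ c'.i = kernel.ι _ ≫ pullback.fst c'.p c.p :=
    let l := KernelFork.IsLimit.lift' c'.se.fIsKernel (kernel.ι _ ≫ pullback.fst c'.p c.p)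
      (by change _ ≫ c'.p = 0; rw [Category.assoc, pullback.condition, kernel.condition_assoc, zero_comp])
    ⟨l.1, l.2⟩
  have hM : P₁ (pullback c'.p c.p) := by
    haveI : Mono c'.i := c'.se.mono_f
    let j : c'.K ⟶ kernel (pullback.snd c'.p c.p) :=
      kernel.lift _ (pullback.lift c'.i 0 (by rw [c'.w, zero_comp])) (pullback.lift_snd _ _ _)
    have e₁ : t ≫ j = 𝟙 _ := by
      rw [← cancel_mono (kernel.ι _)]
      refine pullback.hom_ext ?_ ?_
      · simp only [j, Category.assoc, Category.id_comp, kernel.lift_ι_assoc, pullback.lift_fst, ht]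
      · simp only [j, Category.assoc, Category.id_comp, kernel.lift_ι_assoc, pullback.lift_snd,
          kernel.condition, comp_zero]
    have e₂ : j ≫ t = 𝟙 _ := by
      rw [← cancel_mono c'.i, Category.assoc, ht, Category.id_comp]
      simp only [j, kernel.lift_ι_assoc, pullback.lift_fst]
    haveI := H.iso₁
    exact H.hext₁ _ hse (P₁.prop_of_iso (⟨j, t, e₂, e₁⟩ : c'.K ≅ kernel _) (H.ker h.1 c'))
      (H.hle _ c.hL)
  obtain ⟨d⟩ := H.cover hM
  haveI : Epi d.p := d.se.epi_g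
  let d' : Cover P₀ A := Cover.ofEpi P₀ (d.p ≫ pullback.snd c'.p c.p ≫ c.p) d.hL
  have h₁ := eval H hf h c d' (d.p ≫ pullback.snd c'.p c.p) (show Epi (d.p ≫ pullback.snd c'.p c.p : d.L ⟶ c.L) from epi_comp d.p _) (Category.assoc _ _ _)
  have h₂ := eval H hf h c' d' (d.p ≫ pullback.fst c'.p c.p) (show Epi (d.p ≫ pullback.fst c'.p c.p : d.L ⟶ c'.L) from epi_comp d.p _)
    (by rw [Category.assoc, pullback.condition]; rfl)
  rw [← h₁, ← h₂]

omit hf in
open Classical in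
/-- The extension of an Euler function to one more dimension. -/
def next (f : C → KZero.K0sub P₀) (A : C) : KZero.K0sub P₀ :=
  if h : P₁ A then KZero.clSub P₀ (H.cover h).some.L - f (H.cover h).some.K else 0

lemma next_eq {A : C} (h : Dim P₀ P₁ (n + 1) A) (c : Cover P₀ A) :
    next H f A = KZero.clSub P₀ c.L - f c.K := by
  rw [next, dif_pos h.1]
  exact wellDefined H hf h _ _

lemma isEuler_next : IsEuler (P₁ := P₁) (n + 1) (next H f) where
  base A hA := by
    have hA' := dim_of_P₀ H.hle H.h1₀ (n + 1) hA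
    let c : Cover P₀ A :=
      ⟨kernel (𝟙 A), A, kernel.ι _, 𝟙 A, kernel.condition _,
        ShortComplex.ShortExact.mk' (ShortComplex.exact_of_f_is_kernel _ (kernelIsKernel _))
          inferInstance inferInstance, hA⟩
    have hZ : IsZero (kernel (𝟙 A)) := isZero_kernel_of_mono (𝟙 A)
    rw [next_eq H hf hA' c, hf.base _ (H.zero hA hZ), KSub.clSub_zero hZ (H.zero hA hZ), sub_zero]
  add S hS h₁ h₂ h₃ := by
    haveI : Mono S.f := hS.mono_f
    haveI : Epi S.g := hS.epi_g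
    obtain ⟨c₀⟩ := H.cover h₃.1
    obtain ⟨L'', u, v, hL'', hu, huv⟩ := H.h2 S.X₂ S.X₃ c₀.L S.g c₀.p inferInstance h₂.1 h₃.1
      (H.hle _ c₀.hL)
    haveI : Epi c₀.p := c₀.se.epi_g
    obtain ⟨c₁⟩ := H.cover h₁.1
    haveI : Epi c₁.p := c₁.se.epi_g
    let c₃ : Cover P₀ S.X₃ := Cover.ofEpi P₀ (u ≫ c₀.p) hL''
    let m : c₁.L ⊞ L'' ⟶ S.X₂ := biprod.desc (c₁.p ≫ S.f) v
    have hsplit := (ShortComplex.Splitting.ofHasBinaryBiproduct c₁.L L'').shortExact
    have hL : P₀ (c₁.L ⊞ L'') := H.hext₀ _ hsplit c₁.hL hL''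
    haveI : Epi m := Preadditive.epi_of_cancel_zero _ fun {T} h hh => by
      have e₁ : c₁.p ≫ S.f ≫ h = 0 := by
        simpa [m] using congr(biprod.inl ≫ $hh)
      have e₂ : v ≫ h = 0 := by
        simpa [m] using congr(biprod.inr ≫ $hh)
      obtain ⟨h', hh'⟩ := CokernelCofork.IsColimit.desc' hS.gIsCokernel h
        ((cancel_epi c₁.p).mp (e₁.trans comp_zero.symm))
      change S.g ≫ h' = h at hh'
      have e₃ : u ≫ c₀.p ≫ h' = 0 := by
        rw [← Category.assoc, huv, Category.assoc, hh', e₂]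
      rw [← hh', (cancel_epi c₀.p).mp (((cancel_epi u).mp (e₃.trans comp_zero.symm)).trans
        comp_zero.symm), comp_zero]
    let c₂ : Cover P₀ S.X₂ := Cover.ofEpi P₀ m hL
    have hmg : m ≫ S.g = biprod.snd ≫ u ≫ c₀.p := by
      apply biprod.hom_ext' <;> simp [m, huv]
    let a : c₁.K ⟶ kernel m := kernel.lift m (c₁.i ≫ biprod.inl)
      (by simp [m, reassoc_of% c₁.w])
    let b : kernel m ⟶ kernel (u ≫ c₀.p) := kernel.lift (u ≫ c₀.p) (kernel.ι m ≫ biprod.snd)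
      (by rw [Category.assoc, ← hmg, kernel.condition_assoc, zero_comp])
    have ha : a ≫ kernel.ι m = c₁.i ≫ biprod.inl := kernel.lift_ι _ _ _
    have hb : b ≫ kernel.ι (u ≫ c₀.p) = kernel.ι m ≫ biprod.snd := kernel.lift_ι _ _ _
    haveI : Mono c₁.i := c₁.se.mono_f
    haveI : Mono a := mono_of_mono_fac ha
    have w : a ≫ b = 0 := by
      rw [← cancel_mono (kernel.ι (u ≫ c₀.p))]
      simp [a, b]
    haveI : Epi b := by
      obtain ⟨z, hz⟩ := KernelFork.IsLimit.lift' hS.fIsKernel (kernel.ι (u ≫ c₀.p) ≫ v) (by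
        rw [Category.assoc, ← huv, kernel.condition])
      change z ≫ S.f = _ at hz
      let t : pullback z c₁.p ⟶ kernel m :=
        kernel.lift m (pullback.fst z c₁.p ≫ kernel.ι (u ≫ c₀.p) ≫ biprod.inr -
          pullback.snd z c₁.p ≫ biprod.inl) (by
          simp only [Preadditive.sub_comp, Category.assoc, m, biprod.inr_desc, biprod.inl_desc]
          rw [← hz, pullback.condition_assoc, sub_self])
      have htb : t ≫ b = pullback.fst z c₁.p := by
        rw [← cancel_mono (kernel.ι (u ≫ c₀.p)), Category.assoc, hb,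
          kernel.lift_ι_assoc]
        simp
      exact epi_of_epi_fac htb
    have hK : (ShortComplex.mk a b w).ShortExact := by
      refine ShortComplex.ShortExact.mk' (ShortComplex.exact_of_f_is_kernel _ ?_) inferInstance ‹_›
      refine KernelFork.IsLimit.ofι' _ _ fun {T} x hx => ?_
      have hx2 : (x ≫ kernel.ι m) ≫ biprod.snd = 0 := by
        rw [Category.assoc, ← hb, reassoc_of% hx, zero_comp]
      have hdec : x ≫ kernel.ι m = (x ≫ kernel.ι m ≫ biprod.fst) ≫ biprod.inl := by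
        apply biprod.hom_ext
        · simp
        · simpa using hx2
      have h0 : ((x ≫ kernel.ι m ≫ biprod.fst) ≫ c₁.p) ≫ S.f = 0 := by
        have := congr($hdec ≫ m)
        simpa [m] using this.symm
      obtain ⟨t, ht⟩ := KernelFork.IsLimit.lift' c₁.se.fIsKernel (x ≫ kernel.ι m ≫ biprod.fst)
        ((cancel_mono S.f).mp (h0.trans zero_comp.symm))
      change t ≫ c₁.i = _ at ht
      exact ⟨t, by rw [← cancel_mono (kernel.ι m), Category.assoc, ha, ← Category.assoc, ht,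
        ← hdec]⟩
    have e := hf.add _ hK (h₁.2 c₁) (h₂.2 c₂) (h₃.2 c₃)
    have r := KSub.rel (P := P₀) hsplit c₁.hL hL hL''
    dsimp at e r
    rw [next_eq H hf h₁ c₁, next_eq H hf h₂ c₂, next_eq H hf h₃ c₃]
    change KZero.clSub P₀ (c₁.L ⊞ L'') - f (kernel m) =
      (KZero.clSub P₀ c₁.L - f c₁.K) + (KZero.clSub P₀ L'' - f (kernel (u ≫ c₀.p)))
    rw [e, r]
    abel

lemma eq_of_isEuler {g : C → KZero.K0sub P₀} {m : ℕ} (hg : IsEuler (P₁ := P₁) m g) (hmn : m ≤ n) :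
    ∀ {k : ℕ}, k ≤ m → ∀ {A : C}, Dim P₀ P₁ k A → f A = g A
  | 0, _, A, hA => (hf.base A hA).trans (hg.base A hA).symm
  | k + 1, hk, A, hA => by
      obtain ⟨c⟩ := H.cover hA.1
      have hK : Dim P₀ P₁ k c.K := hA.2 c
      have hm := fun {j : ℕ} (hj : j ≤ m) {B : C} (hB : Dim P₀ P₁ j B) =>
        dim_mono H.hle H.h1₀ hj hB
      have hn := fun {j : ℕ} (hj : j ≤ m) {B : C} (hB : Dim P₀ P₁ j B) =>
        dim_mono H.hle H.h1₀ (hj.trans hmn) hB
      have e₁ := hf.add _ c.se (hn (by omega) hK) (dim_of_P₀ H.hle H.h1₀ n c.hL) (hn hk hA)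
      have e₂ := hg.add _ c.se (hm (by omega) hK) (dim_of_P₀ H.hle H.h1₀ m c.hL) (hm hk hA)
      dsimp at e₁ e₂
      rw [hf.base _ c.hL, eq_of_isEuler hg hmn (by omega : k ≤ m) hK] at e₁
      rw [hg.base _ c.hL] at e₂
      exact add_left_cancel (e₁.symm.trans e₂)

omit hf

lemma exists_isEuler : ∀ n : ℕ, ∃ f : C → KZero.K0sub P₀, IsEuler (P₁ := P₁) n f
  | 0 => ⟨KZero.clSub P₀, fun _ _ => rfl, fun _ hS h₁ h₂ h₃ => KSub.rel hS h₁ h₂ h₃⟩
  | n + 1 => ⟨_, isEuler_next H (exists_isEuler n).choose_spec⟩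

/-- The resolution theorem. -/
theorem bijective (hdim : ∀ A, P₁ A → ∃ n, Dim P₀ P₁ n A) :
    Function.Bijective (SGA6.mapSub (𝟭 C) P₀ P₁ H.hle) := by
  classical
  choose F hF using exists_isEuler H
  let χ : C → KZero.K0sub P₀ := fun A => if h : P₁ A then F (hdim A h).choose A else 0
  have hχ : ∀ {A : C} (hA : P₁ A) {n : ℕ}, Dim P₀ P₁ n A → χ A = F n A := by
    intro A hA n hn
    simp only [χ, dif_pos hA]
    set m := (hdim A hA).choose with hm
    rcases le_total m n with hle | hle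
    · exact (eq_of_isEuler H (hF n) (hF m) hle le_rfl (hdim A hA).choose_spec).symm
    · exact eq_of_isEuler H (hF m) (hF n) hle le_rfl hn
  have hadd : ∀ S : ShortComplex C, S.ShortExact → P₁ S.X₁ → P₁ S.X₂ → P₁ S.X₃ →
      χ S.X₂ = χ S.X₁ + χ S.X₃ := by
    intro S hS h₁ h₂ h₃
    obtain ⟨a, ha⟩ := hdim _ h₁
    obtain ⟨b, hb⟩ := hdim _ h₂
    obtain ⟨c, hc⟩ := hdim _ h₃
    have ha' := dim_mono H.hle H.h1₀ (show a ≤ a + b + c by omega) ha
    have hb' := dim_mono H.hle H.h1₀ (show b ≤ a + b + c by omega) hb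
    have hc' := dim_mono H.hle H.h1₀ (show c ≤ a + b + c by omega) hc
    rw [hχ h₁ ha', hχ h₂ hb', hχ h₃ hc']
    exact (hF _).add S hS ha' hb' hc'
  have hinv : ∀ x, KSub.lift χ hadd (SGA6.mapSub (𝟭 C) P₀ P₁ H.hle x) = x := by
    intro x
    refine DFunLike.congr_fun (KSub.hom_ext (φ := (KSub.lift χ hadd).comp
      (SGA6.mapSub (𝟭 C) P₀ P₁ H.hle)) (ψ := AddMonoidHom.id _) fun X hX => ?_) x
    rw [AddMonoidHom.comp_apply, KSub.mapSub_cl (𝟭 C) H.hle hX,
      KSub.lift_cl χ hadd (X := (𝟭 C).obj X) (H.hle X hX)]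
    exact (hχ (H.hle X hX) (n := 0) hX).trans ((hF 0).base X hX)
  refine ⟨Function.LeftInverse.injective hinv, ?_⟩
  rw [← AddMonoidHom.range_eq_top]
  refine KSub.closure_eq_top fun A hA => ?_
  obtain ⟨n, hn⟩ := hdim A hA
  induction n generalizing A with
  | zero => exact ⟨_, KSub.mapSub_cl (𝟭 C) H.hle hn⟩
  | succ n ih =>
    obtain ⟨c⟩ := H.cover hA
    have r := KSub.rel (P := P₁) c.se (H.ker hA c) (H.hle _ c.hL) hA
    dsimp at r
    rw [show KZero.clSub P₁ A = KZero.clSub P₁ c.L - KZero.clSub P₁ c.K by rw [r]; abel]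
    exact sub_mem ⟨_, KSub.mapSub_cl (𝟭 C) H.hle c.hL⟩
      (ih c.K (H.ker hA c) (hn.2 c))

end

end Groth.Agent.Lib.KRes.Euler
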