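import Groth.Agent.Lib.KRes.KDb
import Groth.Agent.Lib.PCoh.Perfect
import Groth.Agent.Lib.Perfect.Stupid
import Mathlib.Algebra.Homology.DerivedCategory.ShortExact
import Mathlib.Algebra.Category.ModuleCat.Projective
import Mathlib.Algebra.Category.ModuleCat.Biproducts

/-!
# `K₀` of a class of projective objects is `K₀` of the bounded complexes with terms in that class
-/

set_option autoImplicit false
set_option linter.unusedSectionVars false
set_option linter.style.haveILetI false

universe w v u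

open CategoryTheory CategoryTheory.Limits CategoryTheory.Pretriangulated DerivedCategory
open scoped ZeroObject

namespace Groth.Agent.Lib.KRes.KProj

open Groth.Agent.Lib.KRes

variable {C : Type u} [Category.{v} C] [Abelian C] [HasDerivedCategory.{w} C]
variable (P : ObjectProperty C) [P.IsClosedUnderIsomorphisms] [P.ContainsZero]

/-- A bounded complex with terms in `P`. -/
def BP (E : CochainComplex C ℤ) : Prop :=
  (∃ a b : ℤ, ∀ i, i < a ∨ b < i → IsZero (E.X i)) ∧ ∀ i, P (E.X i)

/-- The summand of the Euler characteristic of a complex. -/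
noncomputable def tm (E : CochainComplex C ℤ) (i : ℤ) : KZero.K0sub P :=
  ((i.negOnePow : ℤˣ) : ℤ) • KZero.clSub P (E.X i)

/-- The Euler characteristic of a complex. -/
noncomputable def χc (E : CochainComplex C ℤ) : KZero.K0sub P := ∑ᶠ i : ℤ, tm P E i

lemma finite_tm {E : CochainComplex C ℤ} (hE : BP P E) : (tm P E).HasFiniteSupport :=
  let ⟨a, b, h⟩ := hE.1
  KDb.hasFiniteSupport _ a b fun i hi => by rw [tm, KDb.clSub_isZero P (h i hi), smul_zero]

lemma χc_eq_sum {E : CochainComplex C ℤ} (a b : ℤ) (h : ∀ i, i < a ∨ b < i → IsZero (E.X i)) :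
    χc P E = (Finset.Icc a b).sum (tm P E) := by
  refine finsum_eq_sum_of_support_subset _ fun i hi => ?_
  by_contra h'
  simp only [Finset.coe_Icc, Set.mem_Icc, not_and_or, not_le] at h'
  exact hi (by rw [tm, KDb.clSub_isZero P (h i h'), smul_zero])

variable (hproj : ∀ X, P X → Projective X)
  (hst : ∀ (E F : C) (u : E ⟶ F), Epi u → P E → P F → P (kernel u))
  (hbip : ∀ X Y : C, P X → P Y → P (X ⊞ Y))

include hst in
lemma χc_acyclic {K : CochainComplex C ℤ} (hK : BP P K) (hex : ∀ i, K.ExactAt i) :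
    χc P K = 0 := by
  obtain ⟨a, b, hv⟩ := hK.1
  have hZ : ∀ i, P (K.cycles i) := fun i =>
    Groth.Agent.Lib.PCoh.Perfect.cycles_mem hst K b i (fun j _ => hK.2 j)
      (fun j hj => hv j (Or.inr hj)) (fun j _ => hex j)
  let G : ℤ → KZero.K0sub P := fun i => ((i.negOnePow : ℤˣ) : ℤ) • KZero.clSub P (K.cycles i)
  have key : ∀ i, tm P K i = G i - G (i + 1) := by
    intro i
    have he : K.iCycles i ≫ K.toCycles i (i + 1) = 0 := by
      rw [← cancel_mono (K.iCycles (i + 1))]; simp
    have hepi : Epi (K.toCycles i (i + 1)) := by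
      rw [epi_iff_surjective_up_to_refinements]
      intro A x
      obtain ⟨A', π, hπ, y, hy⟩ := ((K.exactAt_iff_exact_up_to_refinements i (i + 1) (i + 1 + 1)
        (by simp) (by simp)).1 (hex (i + 1))) (x ≫ K.iCycles (i + 1)) (by simp)
      exact ⟨A', π, hπ, y, by simp [← cancel_mono (K.iCycles (i + 1)), hy]⟩
    have hS : (ShortComplex.mk (K.iCycles i) (K.toCycles i (i + 1)) he).ShortExact := by
      refine ShortComplex.ShortExact.mk' (ShortComplex.exact_of_f_is_kernel _ ?_) inferInstance hepi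
      exact KernelFork.IsLimit.ofι' _ _ fun k hk => ⟨K.liftCycles k (i + 1) (by simp)
        (by simpa using congrArg (· ≫ K.iCycles (i + 1)) hk), K.liftCycles_i _ _ _ _⟩
    simp only [tm, G, Int.negOnePow_succ, Units.val_neg, neg_smul, sub_neg_eq_add, ← smul_add]
    rw [KSub.rel hS (hZ i) (hK.2 i) (hZ _)]
  have hG : G.HasFiniteSupport := KDb.hasFiniteSupport _ a b fun i hi => by
    simp only [G]
    rw [KDb.clSub_isZero P (IsZero.of_mono (K.iCycles i) (hv i hi)), smul_zero]
  have hG' : (fun i => G (i + 1)).HasFiniteSupport :=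
    KDb.hasFiniteSupport _ (a - 1) (b - 1) fun i hi => by
      simp only [G]
      rw [KDb.clSub_isZero P (IsZero.of_mono (K.iCycles (i + 1)) (hv _ (by omega))), smul_zero]
  rw [χc, finsum_congr key, finsum_sub_distrib (f := G) (g := fun i => G (i + 1)) hG hG',
    show ∑ᶠ i, G (i + 1) = ∑ᶠ i, G i from finsum_comp_equiv (Equiv.addRight (1 : ℤ)), sub_self]

lemma clSub_biprod {X Y : C} (hX : P X) (hY : P Y) (hXY : P (X ⊞ Y)) :
    KZero.clSub P (X ⊞ Y) = KZero.clSub P X + KZero.clSub P Y :=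
  KSub.rel (ShortComplex.Splitting.ofHasBinaryBiproduct X Y).shortExact hX hXY hY

include hbip in
lemma bp_cone {E F : CochainComplex C ℤ} (f : E ⟶ F) (hE : BP P E) (hF : BP P F) :
    BP P (CochainComplex.mappingCone f) := by
  obtain ⟨a, b, hv⟩ := hE.1
  obtain ⟨a', b', hv'⟩ := hF.1
  refine ⟨⟨min (a - 1) a', max (b - 1) b', fun i hi => ?_⟩, fun i => ?_⟩
  · rw [CochainComplex.mappingCone.isZero_X_iff]
    exact ⟨hv _ (by omega), hv' _ (by omega)⟩
  · exact P.prop_of_iso (HomologicalComplex.homotopyCofiber.XIsoBiprod f i (i + 1) rfl).symm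
      (hbip _ _ (hE.2 _) (hF.2 _))

include hbip in
lemma χc_cone {E F : CochainComplex C ℤ} (f : E ⟶ F) (hE : BP P E) (hF : BP P F) :
    χc P (CochainComplex.mappingCone f) = χc P F - χc P E := by
  have key : ∀ i, tm P (CochainComplex.mappingCone f) i = tm P F i - tm P E (i + 1) := by
    intro i
    have e := HomologicalComplex.homotopyCofiber.XIsoBiprod f i (i + 1) rfl
    simp only [tm, Int.negOnePow_succ, Units.val_neg, neg_smul, sub_neg_eq_add, ← smul_add]
    congr 1
    refine (KDb.clSub_congr P e).trans ?_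
    rw [clSub_biprod P (hE.2 _) (hF.2 _) (hbip _ _ (hE.2 _) (hF.2 _)), add_comm]
  obtain ⟨a, b, hv⟩ := hE.1
  have h' : (fun i => tm P E (i + 1)).HasFiniteSupport :=
    KDb.hasFiniteSupport _ (a - 1) (b - 1) fun i hi => by
      rw [tm, KDb.clSub_isZero P (hv _ (by omega)), smul_zero]
  rw [χc, finsum_congr key, finsum_sub_distrib (f := tm P F) (g := fun i => tm P E (i + 1))
    (finite_tm P hF) h']
  exact congrArg (_ - ·) (finsum_comp_equiv (f := tm P E) (Equiv.addRight (1 : ℤ)))

include hproj in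
lemma exists_map {E : CochainComplex C ℤ} (hE : BP P E) (K : CochainComplex C ℤ)
    (α : DerivedCategory.Q.obj E ⟶ DerivedCategory.Q.obj K) :
    ∃ f : E ⟶ K, DerivedCategory.Q.map f = α := by
  obtain ⟨a, b, hv⟩ := hE.1
  refine Groth.Agent.Lib.PCoh.Perfect.exists_map (P := P) (fun A B u hu hB => ?_) E K b hE.2
    (fun i hi => hv i (Or.inr hi)) α
  haveI := hu
  haveI := hproj B hB
  exact IsSplitEpi.mk' ⟨Projective.factorThru (𝟙 B) u, Projective.factorThru_comp _ _⟩

include hproj hst hbip in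
lemma χc_congr {E F : CochainComplex C ℤ} (hE : BP P E) (hF : BP P F)
    (e : DerivedCategory.Q.obj E ≅ DerivedCategory.Q.obj F) : χc P E = χc P F := by
  obtain ⟨f, hf⟩ := exists_map P hproj hE F e.hom
  have : QuasiIso f := (DerivedCategory.isIso_Q_map_iff_quasiIso C f).1 (by rw [hf]; infer_instance)
  have h := χc_acyclic P hst (bp_cone P hbip f hE hF)
    ((Groth.Agent.Lib.PCoh.Cone.quasiIso_iff f).1 inferInstance)
  rw [χc_cone P hbip f hE hF, sub_eq_zero] at h
  exact h.symm

variable {Q : ObjectProperty (DerivedCategory C)}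

/-- `Q` consists of the objects represented by bounded complexes with terms in `P`. -/
def Cond (Q : ObjectProperty (DerivedCategory C)) : Prop :=
  ∀ K, Q K ↔ ∃ E, BP P E ∧ Nonempty (DerivedCategory.Q.obj E ≅ K)

variable {P}

lemma isClosedUnderIso (hQ : Cond P Q) : Q.IsClosedUnderIsomorphisms where
  of_iso e h := let ⟨E, hE, ⟨i⟩⟩ := (hQ _).1 h; (hQ _).2 ⟨E, hE, ⟨i ≪≫ e⟩⟩

lemma prop_single (hQ : Cond P Q) {X : C} (hX : P X) (n : ℤ) : Q ((singleFunctor C n).obj X) := by
  refine (hQ _).2 ⟨(CochainComplex.singleFunctor C n).obj X, ⟨⟨n, n, fun i hi => ?_⟩, fun i => ?_⟩,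
    ⟨((SingleFunctors.evaluation _ _ n).mapIso (singleFunctorsPostcompQIso C)).symm.app X⟩⟩
  · exact HomologicalComplex.isZero_single_obj_X _ _ _ _ (by omega)
  · by_cases h : i = n
    · subst h
      exact P.prop_of_iso (HomologicalComplex.singleObjXSelf _ _ _).symm hX
    · exact P.prop_of_isZero (HomologicalComplex.isZero_single_obj_X _ _ _ _ h)

lemma prop_zero (hQ : Cond P Q) {Z : DerivedCategory C} (hZ : IsZero Z) : Q Z := by
  haveI := isClosedUnderIso hQ
  exact Q.prop_of_iso (((singleFunctor C 0).map_isZero (isZero_zero C)).iso hZ)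
    (prop_single hQ (P.prop_of_isZero (isZero_zero C)) 0)

variable (P) in
/-- The Euler characteristic of an object, by a chosen representative. -/
noncomputable def χQ (K : DerivedCategory C) : KZero.K0sub P :=
  open Classical in
  if h : ∃ E, BP P E ∧ Nonempty (DerivedCategory.Q.obj E ≅ K) then χc P h.choose else 0

include hproj hst hbip in
lemma χQ_eq {K : DerivedCategory C} {E : CochainComplex C ℤ} (hE : BP P E)
    (e : DerivedCategory.Q.obj E ≅ K) : χQ P K = χc P E := by
  have h : ∃ E, BP P E ∧ Nonempty (DerivedCategory.Q.obj E ≅ K) := ⟨E, hE, ⟨e⟩⟩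
  rw [χQ, dif_pos h]
  obtain ⟨e'⟩ := h.choose_spec.2
  exact χc_congr P hproj hst hbip h.choose_spec.1 hE (e' ≪≫ e.symm)

include hproj hst hbip in
lemma χQ_add (hQ : Cond P Q) (T : Triangle (DerivedCategory C)) (hT : T ∈ distTriang _)
    (h₁ : Q T.obj₁) (h₂ : Q T.obj₂) : χQ P T.obj₂ = χQ P T.obj₁ + χQ P T.obj₃ := by
  obtain ⟨E, hE, ⟨e₁⟩⟩ := (hQ _).1 h₁
  obtain ⟨F, hF, ⟨e₂⟩⟩ := (hQ _).1 h₂
  obtain ⟨f, hf⟩ := exists_map P hproj hE F (e₁.hom ≫ T.mor₁ ≫ e₂.inv)
  let I := isoTriangleOfIso₁₂ _ _ (DerivedCategory.mappingCone_triangle_distinguished f) hT e₁ e₂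
    (by
      change DerivedCategory.Q.map f ≫ e₂.hom = e₁.hom ≫ T.mor₁
      rw [hf]; simp)
  rw [χQ_eq hproj hst hbip hE e₁, χQ_eq hproj hst hbip hF e₂,
    χQ_eq hproj hst hbip (bp_cone P hbip f hE hF)
      (K := T.obj₃) (Triangle.π₃.mapIso I), χc_cone P hbip f hE hF]
  abel

/-- `[X] ↦ [X[0]]`. -/
noncomputable def toTr (hQ : Cond P Q) : KZero.K0sub P →+ KZero.K0tr Q :=
  KSub.lift (fun X => KZero.clTr Q ((singleFunctor C 0).obj X)) fun _ hS h₁ h₂ h₃ =>
    KTr.rel hS.singleTriangle_distinguished (prop_single hQ h₁ 0) (prop_single hQ h₂ 0)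
      (prop_single hQ h₃ 0)

lemma clTr_single (hQ : Cond P Q) {X : C} (hX : P X) (n : ℤ) :
    KZero.clTr Q ((singleFunctor C n).obj X) =
      ((n.negOnePow : ℤˣ) : ℤ) • KZero.clTr Q ((singleFunctor C 0).obj X) := by
  have := isClosedUnderIso hQ
  have step : ∀ m : ℤ, KZero.clTr Q ((singleFunctor C m).obj X) =
      - KZero.clTr Q ((singleFunctor C (m + 1)).obj X) := by
    intro m
    have e := ((singleFunctors C).shiftIso 1 m (m + 1) (add_comm 1 m)).app X
    rw [KTr.clTr_congr e (isZero_zero _) (prop_zero hQ (isZero_zero _))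
        (Q.prop_of_iso e.symm (prop_single hQ hX m))]
    exact KTr.clTr_shift _ (prop_single hQ hX (m + 1))
      (Q.prop_of_iso e.symm (prop_single hQ hX m)) (prop_zero hQ (isZero_zero _))
  induction n using Int.induction_on with
  | zero => simp
  | succ i ih =>
    rw [Int.negOnePow_succ, Units.val_neg, neg_smul, ← ih, step (i : ℤ), neg_neg]
  | pred i ih =>
    have h1 := step (-(i : ℤ) - 1)
    rw [sub_add_cancel] at h1
    have h2 : ((-(i : ℤ) - 1).negOnePow : ℤ) = -((-(i : ℤ)).negOnePow : ℤ) := by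
      simp [Int.negOnePow_sub]
    rw [h1, h2, neg_smul, ← ih]

lemma toTr_χc (hQ : Cond P Q) {E : CochainComplex C ℤ} (hE : BP P E) :
    toTr hQ (χc P E) = KZero.clTr Q (DerivedCategory.Q.obj E) := by
  haveI := isClosedUnderIso hQ
  have hQE : ∀ {F : CochainComplex C ℤ}, BP P F → Q (DerivedCategory.Q.obj F) :=
    fun {F} hF => (hQ _).2 ⟨F, hF, ⟨Iso.refl _⟩⟩
  obtain ⟨a, b, hv⟩ := hE.1
  obtain ⟨n, hn⟩ : ∃ n : ℕ, b < a + n := ⟨(b - a).toNat + 1, by omega⟩
  induction n generalizing E b with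
  | zero =>
    have hz : ∀ i, IsZero (E.X i) := fun i => hv i (by omega)
    have hZ : IsZero (DerivedCategory.Q.obj E) :=
      DerivedCategory.Q.map_isZero ((IsZero.iff_id_eq_zero _).2
        (HomologicalComplex.hom_ext _ _ fun i => (hz i).eq_of_src _ _))
    rw [KTr.clTr_zero hZ (prop_zero hQ hZ), χc, finsum_eq_zero_of_forall_eq_zero fun i => ?_,
      map_zero]
    rw [tm, KDb.clSub_isZero P (hz i), smul_zero]
  | succ n ih =>
    let S := Perfect.Stupid.trunc E b
    let ι : S ⟶ E := Perfect.Stupid.ι E b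
    haveI : ∀ i, Mono (ι.f i) := fun i => inferInstanceAs (Mono (kernel.ι _))
    haveI : Mono ι := HomologicalComplex.mono_of_mono_f _ inferInstance
    let T := ShortComplex.mk ι (cokernel.π ι) (cokernel.condition ι)
    have hT : T.ShortExact := ShortComplex.ShortExact.mk'
      (ShortComplex.exact_cokernel ι) inferInstance inferInstance
    have hTi : ∀ i, (T.map (HomologicalComplex.eval _ _ i)).ShortExact :=
      fun i => hT.map_of_exact _
    have hSz : ∀ i, i ≠ b → IsZero (S.X i) := fun i hi => by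
      rcases lt_or_gt_of_ne hi with h | h
      · exact Perfect.Stupid.isZero_trunc E b i h
      · exact IsZero.of_mono (ι.f i) (hv i (Or.inr h))
    have hC0 : ∀ i, b ≤ i → IsZero ((cokernel ι).X i) := fun i hi => by
      haveI := Perfect.Stupid.isIso_ι E b i hi
      exact (hTi i).isIso_f_iff.1 this
    have hC1 : ∀ i, i < b → IsIso ((cokernel.π ι).f i) := fun i hi =>
      (hTi i).isIso_g_iff.2 (hSz i (by omega))
    have hCz : ∀ i, i < a ∨ b - 1 < i → IsZero ((cokernel ι).X i) := fun i hi => by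
      by_cases h : b ≤ i
      · exact hC0 i h
      · exact (hv i (by omega)).of_iso (@asIso _ _ _ _ _ (hC1 i (by omega))).symm
    have hS : BP P S := ⟨⟨b, b, fun i hi => hSz i (by omega)⟩, fun i => by
      by_cases h : i = b
      · exact P.prop_of_iso (@asIso _ _ _ _ _ (Perfect.Stupid.isIso_ι E b i (by omega))).symm
          (hE.2 i)
      · exact P.prop_of_isZero (hSz i h)⟩
    have hC : BP P (cokernel ι) := ⟨⟨a, b - 1, hCz⟩, fun i => by
      by_cases h : b ≤ i
      · exact P.prop_of_isZero (hC0 i h)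
      · exact P.prop_of_iso (@asIso _ _ _ _ _ (hC1 i (by omega))) (hE.2 i)⟩
    have hadd : χc P E = χc P S + χc P (cokernel ι) := by
      rw [χc, χc, χc, ← finsum_add_distrib (finite_tm P hS) (finite_tm P hC)]
      refine finsum_congr fun i => ?_
      simp only [tm, ← smul_add]
      exact congrArg _ (KSub.rel (hTi i) (hS.2 i) (hE.2 i) (hC.2 i))
    have hrel : KZero.clTr Q (DerivedCategory.Q.obj E) =
        KZero.clTr Q (DerivedCategory.Q.obj S) + KZero.clTr Q (DerivedCategory.Q.obj (cokernel ι)) :=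
      KTr.rel (DerivedCategory.triangleOfSES_distinguished hT) (hQE hS) (hQE hE) (hQE hC)
    rw [hadd, map_add, hrel, ih hC (b - 1) hCz (by omega)]
    congr 1
    haveI : S.IsStrictlyLE b := (CochainComplex.isStrictlyLE_iff S b).2 fun i hi => hSz i (by omega)
    haveI : S.IsStrictlyGE b := (CochainComplex.isStrictlyGE_iff S b).2 fun i hi => hSz i (by omega)
    obtain ⟨M, ⟨e⟩⟩ := S.exists_iso_single b
    have hM : P M := P.prop_of_iso
      ((HomologicalComplex.eval C (ComplexShape.up ℤ) b).mapIso e ≪≫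
        HomologicalComplex.singleObjXSelf (ComplexShape.up ℤ) b M) (hS.2 b)
    let e' : DerivedCategory.Q.obj S ≅ (singleFunctor C b).obj M :=
      DerivedCategory.Q.mapIso e ≪≫
        ((SingleFunctors.evaluation _ _ b).mapIso (singleFunctorsPostcompQIso C)).symm.app M
    have hχ : χc P S = ((b.negOnePow : ℤˣ) : ℤ) • KZero.clSub P M := by
      rw [χc_eq_sum P b b fun i hi => hSz i (by omega), Finset.Icc_self, Finset.sum_singleton, tm,
        KDb.clSub_congr P (X := S.X b) ((HomologicalComplex.eval C (ComplexShape.up ℤ) b).mapIso e ≪≫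
          HomologicalComplex.singleObjXSelf (ComplexShape.up ℤ) b M)]
    rw [hχ, map_zsmul, toTr, KSub.lift_cl _ _ hM, ← clTr_single hQ hM b,
      KTr.clTr_congr e' (isZero_zero _) (prop_zero hQ (isZero_zero _)) (hQE hS)]

include hproj hst hbip in
/-- `K₀(P) ≅ K₀` of the bounded complexes with terms in `P`. -/
theorem exists_equiv (hQ : Cond P Q) :
    ∃ φ : KZero.K0sub P ≃+ KZero.K0tr Q,
      (∀ X : C, P X → φ (KZero.clSub P X) = KZero.clTr Q ((singleFunctor C 0).obj X)) ∧
      ∀ E, BP P E → φ.symm (KZero.clTr Q (DerivedCategory.Q.obj E)) = χc P E := by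
  haveI := isClosedUnderIso hQ
  let ψ : KZero.K0tr Q →+ KZero.K0sub P :=
    KTr.lift (χQ P) fun T hT h₁ h₂ _ => χQ_add hproj hst hbip hQ T hT h₁ h₂
  have hψ : ∀ E, BP P E → ψ (KZero.clTr Q (DerivedCategory.Q.obj E)) = χc P E := fun E hE => by
    rw [KTr.lift_cl _ _ ((hQ _).2 ⟨E, hE, ⟨Iso.refl _⟩⟩), χQ_eq hproj hst hbip hE (Iso.refl _)]
  refine ⟨AddMonoidHom.toAddEquiv (toTr hQ) ψ ?_ ?_, fun X hX => ?_, hψ⟩
  · refine KSub.hom_ext fun X hX => ?_
    rw [AddMonoidHom.comp_apply, toTr, KSub.lift_cl _ _ hX, AddMonoidHom.id_apply]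
    let E := (CochainComplex.singleFunctor C 0).obj X
    let e : DerivedCategory.Q.obj E ≅ (singleFunctor C 0).obj X :=
      ((SingleFunctors.evaluation _ _ 0).mapIso (singleFunctorsPostcompQIso C)).symm.app X
    have hz : ∀ i : ℤ, i < 0 ∨ 0 < i → IsZero (E.X i) := fun i hi =>
      HomologicalComplex.isZero_single_obj_X _ _ _ _ (by omega)
    have h0 : P (E.X 0) := P.prop_of_iso (HomologicalComplex.singleObjXSelf _ _ _).symm hX
    have hE : BP P E := ⟨⟨0, 0, hz⟩, fun i => by
      by_cases h : i = 0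
      · subst h; exact h0
      · exact P.prop_of_isZero (hz i (by omega))⟩
    rw [KTr.clTr_congr e (isZero_zero _) (prop_zero hQ (isZero_zero _))
      ((hQ _).2 ⟨E, hE, ⟨Iso.refl _⟩⟩), hψ E hE, χc_eq_sum P 0 0 hz, Finset.Icc_self,
      Finset.sum_singleton, tm,
      KDb.clSub_congr P (X := E.X 0) (HomologicalComplex.singleObjXSelf (ComplexShape.up ℤ) 0 X)]
    simp
  · refine KTr.hom_ext fun K hK => ?_
    obtain ⟨E, hE, ⟨e⟩⟩ := (hQ K).1 hK
    rw [AddMonoidHom.comp_apply, AddMonoidHom.id_apply,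
      KTr.clTr_congr e (isZero_zero _) (prop_zero hQ (isZero_zero _))
        ((hQ _).2 ⟨E, hE, ⟨Iso.refl _⟩⟩), hψ E hE, toTr_χc hQ hE]
  · change toTr hQ (KZero.clSub P X) = _
    exact KSub.lift_cl _ _ hX

section Module

variable (R : Type u) [CommRing R]

/-- Finite projective modules. -/
def fp : ObjectProperty (ModuleCat.{u} R) := fun M => Module.Finite R M ∧ Module.Projective R M

instance : (fp R).IsClosedUnderIsomorphisms where
  of_iso e h := by
    obtain ⟨_, _⟩ := h
    exact ⟨Module.Finite.equiv e.toLinearEquiv, Module.Projective.of_equiv e.toLinearEquiv⟩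

lemma fp_of_isZero {Z : ModuleCat.{u} R} (h : IsZero Z) : fp R Z := by
  haveI : Subsingleton Z := ModuleCat.subsingleton_of_isZero h
  exact ⟨inferInstance, inferInstance⟩

instance : (fp R).ContainsZero := ⟨⟨0, isZero_zero _, fp_of_isZero R (isZero_zero _)⟩⟩

lemma fp_projective (M : ModuleCat.{u} R) (h : fp R M) : Projective M := by
  haveI := h.2
  exact M.projective_of_categoryTheory_projective

lemma fp_kernel (E F : ModuleCat.{u} R) (f : E ⟶ F) (hf : Epi f) (hE : fp R E) (hF : fp R F) :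
    fp R (kernel f) := by
  obtain ⟨_, _⟩ := hE
  haveI := hF.2
  refine (fp R).prop_of_iso (ModuleCat.kernelIsoKer f).symm ?_
  obtain ⟨s, hs⟩ := Module.projective_lifting_property f.hom LinearMap.id
    ((ModuleCat.epi_iff_surjective f).1 hf)
  let r : E →ₗ[R] LinearMap.ker f.hom := (LinearMap.id - s.comp f.hom).codRestrict _ fun x => by
    have := LinearMap.congr_fun hs (f.hom x)
    simp only [LinearMap.comp_apply, LinearMap.id_apply] at this
    simp [this]
  have hr : r.comp (LinearMap.ker f.hom).subtype = LinearMap.id := LinearMap.ext fun x =>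
    Subtype.ext (by simp [r, LinearMap.mem_ker.1 x.2])
  exact ⟨Module.Finite.of_surjective r fun x => ⟨x, LinearMap.congr_fun hr x⟩,
    Module.Projective.of_split _ _ hr⟩

lemma fp_biprod (X Y : ModuleCat.{u} R) (hX : fp R X) (hY : fp R Y) : fp R (X ⊞ Y) := by
  obtain ⟨_, _⟩ := hX
  obtain ⟨_, _⟩ := hY
  exact (fp R).prop_of_iso (ModuleCat.biprodIsoProd X Y).symm
    (show fp R (ModuleCat.of R (X × Y)) from ⟨inferInstance, inferInstance⟩)

end Module

end Groth.Agent.Lib.KRes.KProj
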