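import Groth.Agent.Lib.KRes.KProj

/-!
# `K₀` of a class of objects is `K₀` of the bounded complexes in that class, given roofs
-/

set_option autoImplicit false
set_option linter.unusedSectionVars false
set_option linter.style.haveILetI false

universe w v u

open CategoryTheory CategoryTheory.Limits CategoryTheory.Pretriangulated DerivedCategory
open scoped ZeroObject

namespace Groth.Agent.Lib.KRes.KRoof

open Groth.Agent.Lib.KRes Groth.Agent.Lib.KRes.KProj

variable {C : Type u} [Category.{v} C] [Abelian C] [HasDerivedCategory.{w} C]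
variable (P : ObjectProperty C) [P.IsClosedUnderIsomorphisms] [P.ContainsZero]

/-- Morphisms of bounded complexes in the derived category are roofs of chain maps. -/
def Roof : Prop :=
  ∀ (E F : CochainComplex C ℤ), BP P E → BP P F →
    ∀ α : DerivedCategory.Q.obj E ⟶ DerivedCategory.Q.obj F,
      ∃ (G : CochainComplex C ℤ) (g : G ⟶ E) (h : G ⟶ F), BP P G ∧ QuasiIso g ∧
        DerivedCategory.Q.map g ≫ α = DerivedCategory.Q.map h

variable (hroof : Roof P)
  (hst : ∀ (E F : C) (u : E ⟶ F), Epi u → P E → P F → P (kernel u))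
  (hbip : ∀ X Y : C, P X → P Y → P (X ⊞ Y))

include hst hbip in
lemma χc_quasiIso {E F : CochainComplex C ℤ} (hE : BP P E) (hF : BP P F) (f : E ⟶ F) [QuasiIso f] :
    χc P E = χc P F := by
  have h := χc_acyclic P hst (bp_cone P hbip f hE hF)
    ((Groth.Agent.Lib.PCoh.Cone.quasiIso_iff f).1 inferInstance)
  rw [χc_cone P hbip f hE hF, sub_eq_zero] at h
  exact h.symm

include hroof hst hbip in
lemma χc_congr {E F : CochainComplex C ℤ} (hE : BP P E) (hF : BP P F)
    (e : DerivedCategory.Q.obj E ≅ DerivedCategory.Q.obj F) : χc P E = χc P F := by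
  obtain ⟨G, g, h, hG, hg, hgh⟩ := hroof E F hE hF e.hom
  haveI := hg
  haveI : QuasiIso h := (DerivedCategory.isIso_Q_map_iff_quasiIso C h).1 (by
    haveI : IsIso (DerivedCategory.Q.map g) := (DerivedCategory.isIso_Q_map_iff_quasiIso C g).2 hg
    rw [← hgh]; infer_instance)
  rw [← χc_quasiIso P hst hbip hG hE g, χc_quasiIso P hst hbip hG hF h]

variable {P} {Q : ObjectProperty (DerivedCategory C)}

include hroof hst hbip in
lemma χQ_eq {K : DerivedCategory C} {E : CochainComplex C ℤ} (hE : BP P E)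
    (e : DerivedCategory.Q.obj E ≅ K) : χQ P K = χc P E := by
  have h : ∃ E, BP P E ∧ Nonempty (DerivedCategory.Q.obj E ≅ K) := ⟨E, hE, ⟨e⟩⟩
  rw [χQ, dif_pos h]
  obtain ⟨e'⟩ := h.choose_spec.2
  exact χc_congr P hroof hst hbip h.choose_spec.1 hE (e' ≪≫ e.symm)

include hroof hst hbip in
lemma χQ_add (hQ : Cond P Q) (T : Triangle (DerivedCategory C)) (hT : T ∈ distTriang _)
    (h₁ : Q T.obj₁) (h₂ : Q T.obj₂) : χQ P T.obj₂ = χQ P T.obj₁ + χQ P T.obj₃ := by
  obtain ⟨E₀, hE₀, ⟨e₀⟩⟩ := (hQ _).1 h₁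
  obtain ⟨F, hF, ⟨e₂⟩⟩ := (hQ _).1 h₂
  obtain ⟨E, g, f, hE, hg, hgf⟩ := hroof E₀ F hE₀ hF (e₀.hom ≫ T.mor₁ ≫ e₂.inv)
  haveI : IsIso (DerivedCategory.Q.map g) := (DerivedCategory.isIso_Q_map_iff_quasiIso C g).2 hg
  let e₁ : DerivedCategory.Q.obj E ≅ T.obj₁ := asIso (DerivedCategory.Q.map g) ≪≫ e₀
  let I := isoTriangleOfIso₁₂ _ _ (DerivedCategory.mappingCone_triangle_distinguished f) hT e₁ e₂
    (by
      change DerivedCategory.Q.map f ≫ e₂.hom = (DerivedCategory.Q.map g ≫ e₀.hom) ≫ T.mor₁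
      rw [← hgf]; simp)
  rw [χQ_eq hroof hst hbip hE e₁, χQ_eq hroof hst hbip hF e₂,
    χQ_eq hroof hst hbip (bp_cone P hbip f hE hF)
      (K := T.obj₃) (Triangle.π₃.mapIso I), χc_cone P hbip f hE hF]
  abel

include hroof hst hbip in
/-- `K₀(P) ≅ K₀` of the bounded complexes with terms in `P`. -/
theorem exists_equiv (hQ : Cond P Q) :
    ∃ φ : KZero.K0sub P ≃+ KZero.K0tr Q,
      ∀ X : C, P X → φ (KZero.clSub P X) = KZero.clTr Q ((singleFunctor C 0).obj X) := by
  haveI := isClosedUnderIso hQ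
  let ψ : KZero.K0tr Q →+ KZero.K0sub P :=
    KTr.lift (χQ P) fun T hT h₁ h₂ _ => χQ_add hroof hst hbip hQ T hT h₁ h₂
  have hψ : ∀ E, BP P E → ψ (KZero.clTr Q (DerivedCategory.Q.obj E)) = χc P E := fun E hE => by
    rw [KTr.lift_cl _ _ ((hQ _).2 ⟨E, hE, ⟨Iso.refl _⟩⟩), χQ_eq hroof hst hbip hE (Iso.refl _)]
  refine ⟨AddMonoidHom.toAddEquiv (toTr hQ) ψ ?_ ?_, fun X hX => ?_⟩
  · refine KSub.hom_ext fun X hX => ?_
    rw [AddMonoidHom.comp_apply, toTr, KSub.lift_cl _ _ hX, AddMonoidHom.id_apply]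
    let E := (CochainComplex.singleFunctor C 0).obj X
    let e : DerivedCategory.Q.obj E ≅ (singleFunctor C 0).obj X :=
      ((SingleFunctors.evaluation _ _ 0).mapIso (singleFunctorsPostcompQIso C)).symm.app X
    have hz : ∀ i : ℤ, i < 0 ∨ 0 < i → IsZero (E.X i) := fun i hi =>
      HomologicalComplex.isZero_single_obj_X _ _ _ _ (by omega)
    have h0 : P (E.X 0) := P.prop_of_iso (HomologicalComplex.singleObjXSelf _ _ _).symm hX
    have hE : BP P E := ⟨⟨0, 0, hz⟩, fun i => by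
      by_cases h : i = 0
      · subst h; exact h0
      · exact P.prop_of_isZero (hz i (by omega))⟩
    rw [KTr.clTr_congr e (isZero_zero _) (prop_zero hQ (isZero_zero _))
      ((hQ _).2 ⟨E, hE, ⟨Iso.refl _⟩⟩), hψ E hE, χc_eq_sum P 0 0 hz, Finset.Icc_self,
      Finset.sum_singleton, tm,
      KDb.clSub_congr P (X := E.X 0) (HomologicalComplex.singleObjXSelf (ComplexShape.up ℤ) 0 X)]
    simp
  · refine KTr.hom_ext fun K hK => ?_
    obtain ⟨E, hE, ⟨e⟩⟩ := (hQ K).1 hK
    rw [AddMonoidHom.comp_apply, AddMonoidHom.id_apply,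
      KTr.clTr_congr e (isZero_zero _) (prop_zero hQ (isZero_zero _))
        ((hQ _).2 ⟨E, hE, ⟨Iso.refl _⟩⟩), hψ E hE, toTr_χc hQ hE]
  · change toTr hQ (KZero.clSub P X) = _
    exact KSub.lift_cl _ _ hX

end Groth.Agent.Lib.KRes.KRoof
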