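import Groth.Agent.Lib.DR.Perfect
import Groth.Agent.Lib.Koszul.Basic
import Groth.Agent.Lib.KRes.KTr
import Groth.Prelude.Def_KZero
import Mathlib.RingTheory.Ideal.AssociatedPrime.Finiteness
import Mathlib.RingTheory.Support
import Mathlib.Algebra.Homology.DerivedCategory.SingleTriangle
import Mathlib.Algebra.Homology.DerivedCategory.HomologySequence

/-!
# Perfect complexes supported at the closed point of a regular local ring
-/

set_option autoImplicit false
set_option linter.style.haveILetI false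

universe u

open CategoryTheory CategoryTheory.Limits CategoryTheory.Pretriangulated
open Groth.Agent.Lib Groth.Agent.Lib.DR.Perfect Groth.Agent.Lib.DR.PseudoCoherent Groth.Agent.Lib.DR.FiniteComplex

attribute [local instance] HasDerivedCategory.standard

namespace Groth.Agent.Lib.KRes.KoszulGen

variable {R : Type u} [CommRing R]

/-- Support of the middle of an exact pair. -/
lemma support_subset_of_exact {M₁ M₂ M₃ : Type u} [AddCommGroup M₁] [Module R M₁] [AddCommGroup M₂]
    [Module R M₂] [AddCommGroup M₃] [Module R M₃] (f : M₁ →ₗ[R] M₂) (g : M₂ →ₗ[R] M₃)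
    (h : Function.Exact f g) {S : Set (PrimeSpectrum R)} (h₁ : Module.support R M₁ ⊆ S)
    (h₃ : Module.support R M₃ ⊆ S) : Module.support R M₂ ⊆ S := by
  intro x hx
  by_contra hxS
  have H₁ := Module.notMem_support_iff'.1 (fun hh => hxS (h₁ hh))
  have H₃ := Module.notMem_support_iff'.1 (fun hh => hxS (h₃ hh))
  refine (Module.notMem_support_iff'.2 fun m => ?_) hx
  obtain ⟨r, hr, e₁⟩ := H₃ (g m)
  rw [← map_smul, h] at e₁
  obtain ⟨m', hm'⟩ := e₁
  obtain ⟨s, hs, e₂⟩ := H₁ m'
  exact ⟨_, x.asIdeal.primeCompl.mul_mem hs hr, by rw [mul_smul, ← hm', ← map_smul, e₂, map_zero]⟩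

/-- Perfect objects have finite homology over a Noetherian ring. -/
lemma finite_homology [IsNoetherianRing R] {K : Dual.D R} (hK : DRing.IsPerfect R K) (i : ℤ) :
    Module.Finite R ((DerivedCategory.homologyFunctor (ModuleCat.{u} R) i).obj K) := by
  obtain ⟨E, a, b, -, hfp, ⟨e⟩⟩ := hK
  haveI := (hfp i).1
  haveI : Module.Finite R ((E.sc i).X₂ : ModuleCat.{u} R) := (hfp i).1
  haveI : Module.Finite R ((E.sc i).moduleCatLeftHomologyData.H : ModuleCat.{u} R) :=
    Module.Finite.quotient R _
  exact Module.Finite.equiv (((DerivedCategory.homologyFunctor (ModuleCat.{u} R) i).mapIso e.symm ≪≫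
    (DerivedCategory.homologyFunctorFactors (ModuleCat.{u} R) i).app E ≪≫
      (E.sc i).moduleCatHomologyIso).toLinearEquiv.symm)

/-- Perfect objects are bounded. -/
lemma exists_bounds {K : Dual.D R} (hK : DRing.IsPerfect R K) :
    ∃ a b : ℤ, K.IsGE a ∧ K.IsLE b := by
  obtain ⟨E, a, b, hv, -, ⟨e⟩⟩ := hK
  have hz : ∀ i, i < a ∨ b < i →
      IsZero ((DerivedCategory.homologyFunctor (ModuleCat.{u} R) i).obj K) := fun i hi =>
    ((HomologicalComplex.ExactAt.of_isZero (hv i hi)).isZero_homology).of_iso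
      ((DerivedCategory.homologyFunctor (ModuleCat.{u} R) i).mapIso e.symm ≪≫
        (DerivedCategory.homologyFunctorFactors (ModuleCat.{u} R) i).app E)
  exact ⟨a, b, (DerivedCategory.isGE_iff K a).2 fun i hi => hz i (Or.inl hi),
    (DerivedCategory.isLE_iff K b).2 fun i hi => hz i (Or.inr hi)⟩

variable [IsLocalRing R]

/-- Perfect objects supported at the closed point. -/
abbrev P (R : Type u) [CommRing R] [IsLocalRing R] : ObjectProperty (Dual.D R) :=
  fun K => DRing.IsPerfect R K ∧
    ∀ i : ℤ, Module.support R (Dual.HD R K i) ⊆ {IsLocalRing.closedPoint R}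

instance : (P R).IsClosedUnderIsomorphisms where
  of_iso {X Y} e h := ⟨(pf_iff Y).2 (((pf_iff X).1 h.1).of_iso e), fun i => by
    rw [← LinearEquiv.support_eq
      (((DerivedCategory.homologyFunctor (ModuleCat.{u} R) i).mapIso e).toLinearEquiv)]
    exact h.2 i⟩

lemma p_of_isZero {K : Dual.D R} (h : IsZero K) : P R K := by
  refine ⟨(pf_iff K).2 (pf_zero h), fun i => ?_⟩
  haveI : Subsingleton ((DerivedCategory.homologyFunctor (ModuleCat.{u} R) i).obj K) :=
    ModuleCat.subsingleton_of_isZero ((DerivedCategory.homologyFunctor _ i).map_isZero h)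
  rw [Module.support_eq_empty_iff.2 ‹_›]
  exact Set.empty_subset _

lemma p₂ {T : Triangle (Dual.D R)} (hT : T ∈ distTriang _) (h₁ : P R T.obj₁) (h₃ : P R T.obj₃) :
    P R T.obj₂ := by
  refine ⟨(pf_iff _).2 (pf₂ T hT ((pf_iff _).1 h₁.1) ((pf_iff _).1 h₃.1)), fun i => ?_⟩
  have hex := (ShortComplex.ShortExact.moduleCat_exact_iff_function_exact _).1
    (DerivedCategory.HomologySequence.exact₂ T hT i)
  exact support_subset_of_exact _ _ hex (h₁.2 i) (h₃.2 i)

lemma p_shift {K : Dual.D R} (h : P R K) (n : ℤ) : P R (K⟦n⟧) := by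
  refine ⟨(pf_iff _).2 (((pf_iff _).1 h.1).shift n), fun i => ?_⟩
  have he : Module.support R (Dual.HD R (K⟦n⟧) i) = Module.support R (Dual.HD R K (n + i)) :=
    LinearEquiv.support_eq
      ((((DerivedCategory.homologyFunctor (ModuleCat.{u} R) 0).shiftIso n i _ rfl).app K).toLinearEquiv)
  rw [he]
  exact h.2 (n + i)

variable (fs : List R) (G : AddSubgroup (KZero.K0tr (P R)))

/-- Objects whose class lies in `G`. -/
def InG (K : Dual.D R) : Prop := P R K ∧ KZero.clTr (P R) K ∈ G

variable {G}

lemma inG_iso {X Y : Dual.D R} (e : X ≅ Y) (h : InG G X) : InG G Y :=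
  ⟨(P R).prop_of_iso e h.1, by
    rw [KTr.clTr_congr e (isZero_zero _) (p_of_isZero (isZero_zero _)) h.1]; exact h.2⟩

lemma inG_zero {X : Dual.D R} (h : IsZero X) : InG G X :=
  ⟨p_of_isZero h, by rw [KTr.clTr_zero h (p_of_isZero h)]; exact G.zero_mem⟩

lemma inG₂ (T : Triangle (Dual.D R)) (hT : T ∈ distTriang _) (h₁ : InG G T.obj₁)
    (h₃ : InG G T.obj₃) : InG G T.obj₂ :=
  ⟨p₂ hT h₁.1 h₃.1, by
    rw [KTr.rel hT h₁.1 (p₂ hT h₁.1 h₃.1) h₃.1]; exact G.add_mem h₁.2 h₃.2⟩

lemma inG_shift_one {K : Dual.D R} (h : InG G K) : InG G (K⟦(1 : ℤ)⟧) :=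
  ⟨p_shift h.1 1, by
    rw [KTr.clTr_shift K h.1 (p_shift h.1 1) (p_of_isZero (isZero_zero _))]; exact G.neg_mem h.2⟩

lemma inG_shift_neg_one {K : Dual.D R} (h : InG G K) : InG G (K⟦(-1 : ℤ)⟧) := by
  refine ⟨p_shift h.1 (-1), ?_⟩
  let e : (K⟦(-1 : ℤ)⟧)⟦(1 : ℤ)⟧ ≅ K := (shiftFunctorCompIsoId (Dual.D R) (-1 : ℤ) 1 (by omega)).app K
  have hK' := p_shift h.1 (-1)
  have h1 := KTr.clTr_shift (K⟦(-1 : ℤ)⟧) hK' (p_shift hK' 1) (p_of_isZero (isZero_zero _))
  rw [← KTr.clTr_congr e (isZero_zero _) (p_of_isZero (isZero_zero _)) (p_shift hK' 1)] at h1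
  rw [← neg_neg (KZero.clTr (P R) (K⟦(-1 : ℤ)⟧)), ← h1]
  exact G.neg_mem h.2

lemma inG_single {M : ModuleCat.{u} R}
    (h : InG G ((DerivedCategory.singleFunctor (ModuleCat.{u} R) 0).obj M)) (n : ℤ) :
    InG G ((DerivedCategory.singleFunctor (ModuleCat.{u} R) n).obj M) := by
  induction n using Int.induction_on with
  | zero => exact h
  | succ k ih => exact inG_iso (singleShift M (-1) ((k : ℤ) + 1) k (by omega)) (inG_shift_neg_one ih)
  | pred k ih => exact inG_iso (singleShift M 1 (-(k : ℤ) - 1) (-(k : ℤ)) (by omega)) (inG_shift_one ih)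

variable [IsNoetherianRing R]

/-- Classes of all objects lie in `G` as soon as that of the residue field does. -/
theorem inG_all (hk : InG G ((DerivedCategory.singleFunctor (ModuleCat.{u} R) 0).obj
      (ModuleCat.of R (R ⧸ IsLocalRing.maximalIdeal R)))) (K : Dual.D R) (hK : P R K) : InG G K := by
  have key : ∀ (M : Type u) [AddCommGroup M] [Module R M] (_ : Module.Finite R M),
      Module.support R M ⊆ {IsLocalRing.closedPoint R} →
      InG G ((DerivedCategory.singleFunctor (ModuleCat.{u} R) 0).obj (ModuleCat.of R M)) := by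
    intro M _ _ hM
    refine IsNoetherianRing.induction_on_isQuotientEquivQuotientPrime R (M := M) ‹_›
      (motive := fun N _ _ _ => Module.support R N ⊆ {IsLocalRing.closedPoint R} →
        InG G ((DerivedCategory.singleFunctor (ModuleCat.{u} R) 0).obj (ModuleCat.of R N))) ?_ ?_ ?_
    · intro N _ _ _ _
      exact fun _ => inG_zero ((DerivedCategory.singleFunctor _ 0).map_isZero
        (ModuleCat.isZero_of_subsingleton _))
    · intro N _ _ _ p e hN
      have hp : p ∈ Module.support R N := by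
        rw [LinearEquiv.support_eq e, Module.support_eq_zeroLocus, Ideal.annihilator_quotient]
        exact fun x hx => hx
      obtain rfl := hN hp
      exact inG_iso ((DerivedCategory.singleFunctor _ 0).mapIso e.toModuleIso.symm) hk
    · intro N₁ _ _ _ N₂ _ _ _ N₃ _ _ _ f g hf hg hfg h₁ h₃ hN
      have hS : (ShortComplex.mk (ModuleCat.ofHom f) (ModuleCat.ofHom g)
          (ModuleCat.hom_ext hfg.linearMap_comp_eq_zero)).ShortExact :=
        ShortComplex.ShortExact.mk' ((ShortComplex.ShortExact.moduleCat_exact_iff_function_exact _).2 hfg)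
          ((ModuleCat.mono_iff_injective _).2 hf) ((ModuleCat.epi_iff_surjective _).2 hg)
      exact inG₂ _ hS.singleTriangle_distinguished
        (h₁ ((Module.support_subset_of_injective f hf).trans hN))
        (h₃ ((Module.support_subset_of_surjective g hg).trans hN))
  obtain ⟨a, b, ha, hb⟩ := exists_bounds hK.1
  exact homology_induction (InG G) (fun e h => inG_iso e h) inG_zero inG₂ K a b ha hb
    fun i _ _ => inG_single (key _ (finite_homology hK.1 i) (hK.2 i)) i

omit [IsNoetherianRing R] in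
/-- The Koszul complex of a regular system of parameters is the residue field. -/
theorem koszul_iso (hreg : RingTheory.Sequence.IsRegular R fs)
    (hgen : Ideal.ofList fs = IsLocalRing.maximalIdeal R) :
    Nonempty (DRing.toD (Koszul.koszul R fs) ≅
      (DerivedCategory.singleFunctor (ModuleCat.{u} R) 0).obj
        (ModuleCat.of R (R ⧸ IsLocalRing.maximalIdeal R))) := by
  let K := DRing.toD (Koszul.koszul R fs)
  have hH : ∀ i, ((DerivedCategory.homologyFunctor (ModuleCat.{u} R) i).obj K) ≅
      (Groth.Agent.Lib.Koszul.Basic.koszulOn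
        (Groth.Agent.Lib.Koszul.Basic.sgl (ModuleCat.of R R)) fs).homology i := fun i =>
    (DerivedCategory.homologyFunctorFactors (ModuleCat.{u} R) i).app _ ≪≫
      (HomologicalComplex.homologyFunctor _ _ i).mapIso
        (eqToIso (Groth.Agent.Lib.Koszul.Basic.koszul_eq fs))
  have hz : ∀ i : ℤ, i ≠ 0 →
      IsZero ((DerivedCategory.homologyFunctor (ModuleCat.{u} R) i).obj K) := fun i hi =>
    (Groth.Agent.Lib.Koszul.Basic.isZero_of_weaklyRegular (ModuleCat.of R R) fs
      hreg.toIsWeaklyRegular i hi).of_iso (hH i)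
  haveI : K.IsGE 0 := (DerivedCategory.isGE_iff K 0).2 fun i hi => hz i (by omega)
  haveI : K.IsLE 0 := (DerivedCategory.isLE_iff K 0).2 fun i hi => hz i (by omega)
  obtain ⟨M, ⟨e⟩⟩ := DerivedCategory.exists_iso_singleFunctor_obj_of_isGE_of_isLE K 0
  obtain ⟨e0⟩ := Groth.Agent.Lib.Koszul.Basic.nonempty_homology_zero (M := ModuleCat.of R R) fs
  have eM : M ≅ ModuleCat.of R (R ⧸ IsLocalRing.maximalIdeal R) :=
    ((DerivedCategory.singleFunctorCompHomologyFunctorIso _ 0).app M).symm ≪≫
      (DerivedCategory.homologyFunctor _ 0).mapIso e.symm ≪≫ hH 0 ≪≫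
      (e0.trans (Submodule.quotEquivOfEq _ _ (by rw [hgen]; simp))).toModuleIso
  exact ⟨e ≪≫ (DerivedCategory.singleFunctor _ 0).mapIso eM⟩

omit [IsNoetherianRing R] [IsLocalRing R] in
/-- The Koszul complex is perfect. -/
lemma isPerfect_koszul : ∀ l : List R, DRing.IsPerfect R (DRing.toD (Koszul.koszul R l))
  | [] => (pf_iff _).2 (Pf.of_iso ⟨0, 0, bdd_single good_fproj (P := fproj R) (M := ModuleCat.of R R)
      ⟨Module.Finite.self R, inferInstanceAs (Module.Projective R R)⟩ 0⟩
        ((DerivedCategory.singleFunctorIsoCompQ _ 0).app _))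
  | f :: l =>
    have h := (pf_iff _).1 (isPerfect_koszul l)
    (pf_iff _).2 (pf₃ _ (DerivedCategory.mappingCone_triangle_distinguished
      (f • 𝟙 (Koszul.koszul R l))) h h)

/-- The class of the Koszul complex generates. -/
theorem closure_eq_top (hreg : RingTheory.Sequence.IsRegular R fs)
    (hgen : Ideal.ofList fs = IsLocalRing.maximalIdeal R) :
    AddSubgroup.closure {KZero.clTr (P R) (DRing.toD (Koszul.koszul R fs))} = ⊤ := by
  obtain ⟨e⟩ := koszul_iso fs hreg hgen
  let G := AddSubgroup.closure {KZero.clTr (P R) (DRing.toD (Koszul.koszul R fs))}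
  have hkP : P R ((DerivedCategory.singleFunctor (ModuleCat.{u} R) 0).obj
      (ModuleCat.of R (R ⧸ IsLocalRing.maximalIdeal R))) := by
    refine ⟨(pf_iff _).2 (((pf_iff _).1 (isPerfect_koszul fs)).of_iso e), fun i => ?_⟩
    by_cases hi : i = 0
    · subst hi
      have he : Module.support R (Dual.HD R ((DerivedCategory.singleFunctor (ModuleCat.{u} R) 0).obj
          (ModuleCat.of R (R ⧸ IsLocalRing.maximalIdeal R))) 0) =
          Module.support R (R ⧸ IsLocalRing.maximalIdeal R) :=
        LinearEquiv.support_eq ((DerivedCategory.singleFunctorCompHomologyFunctorIso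
          (ModuleCat.{u} R) 0).app _).toLinearEquiv
      rw [he]
      intro q hq
      rw [Module.support_eq_zeroLocus, Ideal.annihilator_quotient] at hq
      exact PrimeSpectrum.ext ((IsLocalRing.maximalIdeal.isMaximal R).eq_of_le q.2.ne_top hq).symm
    · haveI : Subsingleton (Dual.HD R ((DerivedCategory.singleFunctor (ModuleCat.{u} R) 0).obj
          (ModuleCat.of R (R ⧸ IsLocalRing.maximalIdeal R))) i) := by
        apply ModuleCat.subsingleton_of_isZero
        rcases lt_or_gt_of_ne hi with h | h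
        · exact DerivedCategory.isZero_of_isGE _ 0 i h
        · exact DerivedCategory.isZero_of_isLE _ 0 i h
      rw [Module.support_eq_empty_iff.2 ‹_›]
      exact Set.empty_subset _
  have hk : InG G ((DerivedCategory.singleFunctor (ModuleCat.{u} R) 0).obj
      (ModuleCat.of R (R ⧸ IsLocalRing.maximalIdeal R))) :=
    ⟨hkP, by
      rw [← KTr.clTr_congr e.symm (isZero_zero _) (p_of_isZero (isZero_zero _)) hkP]
      exact AddSubgroup.subset_closure rfl⟩
  suffices H : ∀ x, x ∈ G from eq_top_iff.2 fun x _ => H x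
  intro x
  induction x using QuotientAddGroup.induction_on with
  | H z =>
    induction z using FreeAbelianGroup.induction_on with
    | zero => exact G.zero_mem
    | of X =>
      have := (inG_all hk X.1 X.2).2
      rwa [KTr.clTr_pos X.2] at this
    | neg X h => exact G.neg_mem h
    | add a b ha hb => exact G.add_mem ha hb

end Groth.Agent.Lib.KRes.KoszulGen
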